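import Groth.Agent.Agf.H584.QSolv
import Groth.Agent.Sga3B.CentNorm900

/-!
# Quotients of groups with a filtration with commutative factors are affine
-/

set_option autoImplicit false
universe u
open CategoryTheory CategoryTheory.Limits MonoidalCategory CartesianMonoidalCategory MonObj GrpObj AlgebraicGeometry

namespace K500.AffFil

open Groth.Agent.Agf.H584.QBasic Groth.Agent.Agf.H584.QExt Groth.Agent.Agf.H584.QSolv

variable {k : Type u} [Field k] {K : Over (Spec (CommRingCat.of k))} [GrpObj K] [IsAffine K.left]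
  [LocallyOfFiniteType K.hom]

/-- A group with a functorial filtration by closed subgroups with commutative factors has affine quotients. -/
theorem affQuot_of_filtration (F : ℕ → ∀ ⦃T : Over (Spec (CommRingCat.of k))⦄, (T ⟶ K) → Prop) (N : ℕ)
    (hrep : ∀ j, ∃ (D : Over (Spec (CommRingCat.of k))) (d : D ⟶ K), IsClosedImmersion d.left ∧
      ∀ ⦃T : Over (Spec (CommRingCat.of k))⦄ (y : T ⟶ K), (∃ δ : T ⟶ D, δ ≫ d = y) ↔ F j y)
    (hmul : ∀ j ⦃T : Over (Spec (CommRingCat.of k))⦄ (x y : T ⟶ K), F j x → F j y → F j (x * y))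
    (hone : ∀ j ⦃T : Over (Spec (CommRingCat.of k))⦄, F j (1 : T ⟶ K))
    (hinv : ∀ j ⦃T : Over (Spec (CommRingCat.of k))⦄ (x : T ⟶ K), F j x → F j x⁻¹)
    (hle : ∀ j ⦃T : Over (Spec (CommRingCat.of k))⦄ (x : T ⟶ K), F (j + 1) x → F j x)
    (hcomm : ∀ j ⦃T : Over (Spec (CommRingCat.of k))⦄ (x y : T ⟶ K), F j x → F j y → F (j + 1) (x * y * x⁻¹ * y⁻¹))
    (hN : ∀ ⦃T : Over (Spec (CommRingCat.of k))⦄ (x : T ⟶ K), F N x → x = 1) :
    ∀ (m j : ℕ), j + m = N → ∀ (D : Over (Spec (CommRingCat.of k))) [GrpObj D] (d : D ⟶ K) [IsMonHom d],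
      IsClosedImmersion d.left →
      (∀ ⦃T : Over (Spec (CommRingCat.of k))⦄ (y : T ⟶ K), (∃ δ : T ⟶ D, δ ≫ d = y) ↔ F j y) → AffQuot D := by
  intro m
  induction m with
  | zero =>
    intro j hj D _ d _ hd hD
    have : IsAffine D.left := isAffine_of_closed d
    have : LocallyOfFiniteType D.hom := lft_of_closed d
    have : Mono d := Over.mono_of_mono_left d
    obtain rfl : j = N := hj
    refine affQuot_of_comm D (fun {T} g g' => ?_)
    have key : ∀ g : T ⟶ D, g = 1 := fun g => by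
      rw [← cancel_mono d, MonObj.one_comp]
      exact hN _ ((hD _).1 ⟨g, rfl⟩)
    rw [key g, key g']
  | succ m ih =>
    intro j hj D _ d _ hd hD
    have : IsAffine D.left := isAffine_of_closed d
    have : LocallyOfFiniteType D.hom := lft_of_closed d
    have : Mono d := Over.mono_of_mono_left d
    obtain ⟨D₁, d₁, hd₁, hD₁⟩ := hrep (j + 1)
    have : Mono d₁ := Over.mono_of_mono_left d₁
    obtain ⟨_, _⟩ := Groth.Agent.Sga3B.CentNorm900.exists_grpObj d₁ (F (j + 1)) (fun _ y => hD₁ y) (fun _ x y => hmul _ x y)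
      (fun T => @hone _ T) (fun _ x => hinv _ x)
    obtain ⟨i, hi⟩ := (hD d₁).2 (hle _ _ ((hD₁ _).1 ⟨𝟙 _, Category.id_comp _⟩))
    have hcl : IsClosedImmersion i.left := by
      have h1 : IsClosedImmersion (i.left ≫ d.left) := by
        rw [← Over.comp_left, hi]
        exact hd₁
      exact IsClosedImmersion.of_comp i.left d.left
    have hmi : IsMonHom i := by
      constructor
      · rw [← cancel_mono d, Category.assoc, hi, IsMonHom.one_hom, IsMonHom.one_hom]
      · rw [← cancel_mono d, Category.assoc, Category.assoc, hi, IsMonHom.mul_hom, IsMonHom.mul_hom, ← hi,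
          MonoidalCategory.tensorHom_comp_tensorHom_assoc]
    have hmem : ∀ {T : Over (Spec (CommRingCat.of k))} (g : T ⟶ D), F (j + 1) (g ≫ d) → ∃ n' : T ⟶ D₁, n' ≫ i = g := by
      intro T g hg
      obtain ⟨n', hn'⟩ := (hD₁ _).2 hg
      refine ⟨n', ?_⟩
      rw [← cancel_mono d, Category.assoc, hi, hn']
    have hnorm : AlgGrp.IsNormalHom i := by
      intro T g n
      obtain ⟨n', hn'⟩ := hmem (g * (n ≫ i) * g⁻¹) (by
        have h1 : (g * (n ≫ i) * g⁻¹) ≫ d = ((g ≫ d) * (n ≫ i ≫ d) * (g ≫ d)⁻¹ * (n ≫ i ≫ d)⁻¹) * (n ≫ i ≫ d) := by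
          rw [MonObj.mul_comp, MonObj.mul_comp, GrpObj.inv_comp, Category.assoc]
          group
        rw [h1, hi]
        have h2 : F (j + 1) (n ≫ d₁) := (hD₁ _).1 ⟨n, rfl⟩
        exact hmul _ _ _ (hcomm _ _ _ ((hD _).1 ⟨g, rfl⟩) (hle _ _ h2)) h2)
      exact ⟨n', hn'.symm⟩
    obtain ⟨Q, _, π, hπ1, hπ2, hπ3, hπ4, hπ5, hπ6⟩ := Groth.Agent.S3278.result k D D₁ i hnorm
    have hqc : QuasiCompact π.left := quasiCompact_left π
    refine affQuot_ext i hcl π hπ4 hπ5 hπ6 (ih (j + 1) (by omega) D₁ d₁ hd₁ hD₁) ?_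
    have hepi := epi_tensorHom π
    have hc : fst Q Q * snd Q Q = snd Q Q * fst Q Q := by
      rw [← cancel_epi (π ⊗ₘ π), MonObj.comp_mul, MonObj.comp_mul, tensorHom_fst, tensorHom_snd]
      obtain ⟨n', hn'⟩ := hmem (fst D D * snd D D * (fst D D)⁻¹ * (snd D D)⁻¹) (by
        rw [MonObj.mul_comp, MonObj.mul_comp, MonObj.mul_comp, GrpObj.inv_comp, GrpObj.inv_comp]
        exact hcomm _ _ _ ((hD _).1 ⟨_, rfl⟩) ((hD _).1 ⟨_, rfl⟩))
      have h1 : (fst D D * snd D D * (fst D D)⁻¹ * (snd D D)⁻¹) ≫ π = 1 := by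
        rw [← hn', Category.assoc, hπ6.w, ← Category.assoc, toUnit_unique (n' ≫ toUnit D₁) (toUnit _)]
        rfl
      rw [MonObj.mul_comp, MonObj.mul_comp, MonObj.mul_comp, GrpObj.inv_comp, GrpObj.inv_comp, mul_inv_eq_one,
        mul_inv_eq_iff_eq_mul] at h1
      exact h1
    refine affQuot_of_comm Q (fun {T} g g' => ?_)
    have h1 := congrArg (fun z => lift g g' ≫ z) hc
    simpa [MonObj.comp_mul] using h1

end K500.AffFil
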