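import Groth.Prelude.Def_AlgGrp
import Mathlib.AlgebraicGeometry.Morphisms.FlatDescent
import Mathlib.AlgebraicGeometry.Morphisms.Flat
import Mathlib.AlgebraicGeometry.Limits

/-!
# Basic facts on base change of group schemes over a field
-/

set_option autoImplicit false
universe u
open CategoryTheory CategoryTheory.Limits MonoidalCategory CartesianMonoidalCategory MonObj GrpObj AlgebraicGeometry

namespace K500.BcBasic

variable {S S' : Scheme.{u}}

/-- The base change of a morphism over `S` forms a cartesian square with the projections. -/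
theorem isPullback_map_left (f : S' ⟶ S) {Z Y : Over S} (i : Z ⟶ Y) :
    IsPullback (pullback.fst Z.hom f) ((Over.pullback f).map i).left i.left
      (pullback.fst Y.hom f) := by
  have hw : i.left ≫ Y.hom = Z.hom := Over.w i
  have h2 : IsPullback (pullback.fst Z.hom f) (pullback.snd Z.hom f) (i.left ≫ Y.hom) f := by
    rw [hw]
    exact IsPullback.of_hasPullback Z.hom f
  have h1 : pullback.fst Z.hom f ≫ i.left =
      ((Over.pullback f).map i).left ≫ pullback.fst Y.hom f :=
    (pullback.lift_fst _ _ _).symm
  have h3 : ((Over.pullback f).map i).left ≫ pullback.snd Y.hom f = pullback.snd Z.hom f :=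
    pullback.lift_snd _ _ _
  refine IsPullback.of_bot (h₂₁ := pullback.fst Y.hom f) (v₂₁ := pullback.snd Y.hom f)
    (v₂₂ := Y.hom) (h₃₁ := f) ?_ h1 (IsPullback.of_hasPullback Y.hom f)
  rw [h3]
  exact h2

/-- `Spec k' ⟶ Spec k` is faithfully flat and quasi-compact. -/
theorem specMap_props (k k' : Type u) [Field k] [Field k'] [Algebra k k'] :
    Flat (Spec.map (CommRingCat.ofHom (algebraMap k k'))) ∧
      Surjective (Spec.map (CommRingCat.ofHom (algebraMap k k'))) ∧
      QuasiCompact (Spec.map (CommRingCat.ofHom (algebraMap k k'))) := by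
  refine ⟨?_, ?_, inferInstance⟩
  · rw [Flat.SpecMap_iff]
    exact RingHom.flat_algebraMap_iff.2 inferInstance
  · refine ⟨fun x => ?_⟩
    refine ⟨(⊥ : PrimeSpectrum k'), ?_⟩
    exact Subsingleton.elim (α := PrimeSpectrum k) _ _

/-- properties which descend along fpqc morphisms descend along field extensions (morphisms of schemes over `k`) -/
theorem of_map_left (P : MorphismProperty Scheme.{u}) [P.DescendsAlong (@Surjective ⊓ @Flat ⊓ @QuasiCompact)]
    (k k' : Type u) [Field k] [Field k'] [Algebra k k'] {X Y : Over (Spec (CommRingCat.of k))} (i : X ⟶ Y)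
    (h : P ((Over.pullback (Spec.map (CommRingCat.ofHom (algebraMap k k')))).map i).left) : P i.left := by
  obtain ⟨h1, h2, h3⟩ := specMap_props k k'
  refine MorphismProperty.of_isPullback_of_descendsAlong (P := P)
      (Q := @Surjective ⊓ @Flat ⊓ @QuasiCompact)
      (isPullback_map_left (Spec.map (CommRingCat.ofHom (algebraMap k k'))) i).flip ⟨⟨?_, ?_⟩, ?_⟩ h
  · infer_instance
  · infer_instance
  · infer_instance

end K500.BcBasic
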