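import Mathlib.AlgebraicGeometry.Birational.Birational
import Mathlib.AlgebraicGeometry.Morphisms.UniversallyOpen
import Mathlib.CategoryTheory.Monoidal.Cartesian.Over
import Groth.Agent.Agf.H584.QExt

/-!
# Birational equivalence over a base and products
-/

set_option autoImplicit false
universe u
open CategoryTheory CategoryTheory.Limits MonoidalCategory CartesianMonoidalCategory MonObj GrpObj AlgebraicGeometry

namespace K500.Bir

open Groth.Agent.Agf.H584.QExt (of_isPullback' isPullback_whiskerLeft isPullback_of_points)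

variable {S : Scheme.{u}} {X Y Z U : Over S}

theorem bir_of_iso (e : X ≅ Y) : Scheme.BirationalOver X.hom Y.hom := by
  have h : IsIso e.hom.left := ((Over.forget _).mapIso e).isIso_hom
  exact Scheme.Hom.birationalOver e.hom.left Y.hom X.hom (Over.w e.hom)

theorem bir_of_open (f : U ⟶ X) [IsOpenImmersion f.left] [IsDominant f.left] : Scheme.BirationalOver U.hom X.hom :=
  Scheme.Hom.birationalOver f.left X.hom U.hom (Over.w f)

/-- A birational equivalence is a span of dominant open immersions. -/
theorem exists_span (h : Scheme.BirationalOver X.hom Y.hom) : ∃ (U : Over S) (a : U ⟶ X) (b : U ⟶ Y),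
    IsOpenImmersion a.left ∧ IsDominant a.left ∧ IsOpenImmersion b.left ∧ IsDominant b.left := by
  obtain ⟨f, hf⟩ := h
  have h1 : IsDominant f.source.ι := Opens.isDominant_ι f.dense_source
  have h2 : IsDominant f.target.ι := Opens.isDominant_ι f.dense_target
  refine ⟨Over.mk (f.source.ι ≫ X.hom), Over.homMk f.source.ι rfl, Over.homMk (f.iso.hom ≫ f.target.ι) ?_, ?_, ?_, ?_, ?_⟩
  · rw [Category.assoc]
    exact hf
  · exact inferInstanceAs (IsOpenImmersion f.source.ι)
  · exact h1
  · exact inferInstanceAs (IsOpenImmersion (f.iso.hom ≫ f.target.ι))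
  · change IsDominant (f.iso.hom ≫ f.target.ι)
    infer_instance

/-- Dominant morphisms are stable under base change along open maps. -/
theorem isDominant_of_isPullback {P A B C : Scheme.{u}} {l : P ⟶ A} {r : P ⟶ B} {f : A ⟶ C} {g : B ⟶ C}
    (h : IsPullback l r f g) (hg : IsOpenMap g) [IsDominant f] : IsDominant r := by
  have h1 : r = h.isoPullback.hom ≫ pullback.snd f g := (h.isoPullback_hom_snd).symm
  have h2 : IsDominant (pullback.snd f g) := by
    refine ⟨?_⟩
    rw [DenseRange, Scheme.Pullback.range_snd]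
    exact f.denseRange.preimage hg
  rw [h1]
  infer_instance

theorem isDominant_whiskerLeft (f : U ⟶ X) [IsDominant f.left] (h : IsOpenMap (snd Z X).left) :
    IsDominant (Z ◁ f).left :=
  have h1 : IsPullback (snd Z U).left (Z ◁ f).left f.left (snd Z X).left :=
    (isPullback_whiskerLeft Z f).map (Over.forget _)
  isDominant_of_isPullback h1 h

theorem isOpenImmersion_whiskerLeft (f : U ⟶ X) [IsOpenImmersion f.left] : IsOpenImmersion (Z ◁ f).left :=
  of_isPullback' (P := @IsOpenImmersion) (isPullback_whiskerLeft Z f) inferInstance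

theorem isOpenMap_snd (Z X : Over S) [UniversallyOpen Z.hom] : IsOpenMap (snd Z X).left := by
  change IsOpenMap (pullback.snd Z.hom X.hom)
  exact (pullback.snd Z.hom X.hom).isOpenMap

/-- Products preserve birational equivalence. -/
theorem bir_tensor (h : Scheme.BirationalOver X.hom Y.hom) (Z : Over S) [UniversallyOpen Z.hom] :
    Scheme.BirationalOver (Z ⊗ X).hom (Z ⊗ Y).hom := by
  obtain ⟨U, a, b, _, _, _, _⟩ := exists_span h
  have h1 : IsDominant (Z ◁ a).left := isDominant_whiskerLeft a (isOpenMap_snd Z X)
  have h2 : IsDominant (Z ◁ b).left := isDominant_whiskerLeft b (isOpenMap_snd Z Y)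
  have h3 : IsOpenImmersion (Z ◁ a).left := isOpenImmersion_whiskerLeft a
  have h4 : IsOpenImmersion (Z ◁ b).left := isOpenImmersion_whiskerLeft b
  exact (bir_of_open (Z ◁ a)).symm.trans (bir_of_open (Z ◁ b))

theorem bir_comm (X Y : Over S) : Scheme.BirationalOver (X ⊗ Y).hom (Y ⊗ X).hom := by
  refine bir_of_iso ⟨lift (snd X Y) (fst X Y), lift (snd Y X) (fst Y X), ?_, ?_⟩
  · apply CartesianMonoidalCategory.hom_ext <;> simp
  · apply CartesianMonoidalCategory.hom_ext <;> simp

/-- A torsor with a section over a dense open subset is birational to the trivial torsor. -/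
theorem bir_of_torsor {G Y Q : Over S} [GrpObj G] (a : AlgGrp.Action G Y) (p : Y ⟶ Q) (hp : IsOpenMap p.left)
    (hpb : IsPullback a.act.left (snd G Y).left p.left p.left) [UniversallyOpen G.hom]
    (W : Q.left.Opens) (hW : Dense (W : Set Q.left)) (s : (W : Scheme.{u}) ⟶ Y.left) (hs : s ≫ p.left = W.ι) :
    Scheme.BirationalOver Y.hom (G ⊗ Q).hom := by
  let Wo : Over S := Over.mk (W.ι ≫ Q.hom)
  let w : Wo ⟶ Q := Over.homMk W.ι rfl
  let so : Wo ⟶ Y := Over.homMk s (by
    change s ≫ Y.hom = W.ι ≫ Q.hom
    rw [← hs, Category.assoc, Over.w p])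
  have h1 : IsPullback ((G ◁ so) ≫ a.act).left (snd G Wo).left p.left W.ι := by
    have h2 : IsPullback (G ◁ so).left (snd G Wo).left (snd G Y).left so.left :=
      ((isPullback_whiskerLeft G so).map (Over.forget _)).flip
    have h3 := h2.paste_horiz hpb
    rw [← Over.comp_left] at h3
    have h4 : so.left ≫ p.left = W.ι := hs
    rw [h4] at h3
    exact h3
  have hw : IsDominant W.ι := Opens.isDominant_ι hW
  have h4 : IsDominant ((G ◁ so) ≫ a.act).left := isDominant_of_isPullback h1.flip hp
  have h5 : IsOpenImmersion ((G ◁ so) ≫ a.act).left :=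
    MorphismProperty.of_isPullback (P := @IsOpenImmersion) h1.flip inferInstance
  have h6 : IsOpenImmersion w.left := inferInstanceAs (IsOpenImmersion W.ι)
  have h7 : IsDominant w.left := hw
  have h8 : IsDominant (G ◁ w).left := isDominant_whiskerLeft w (isOpenMap_snd G Q)
  have h9 : IsOpenImmersion (G ◁ w).left := isOpenImmersion_whiskerLeft w
  exact (bir_of_open ((G ◁ so) ≫ a.act)).symm.trans (bir_of_open (G ◁ w))

end K500.Bir
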