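import Groth.Agent.AGF.K500.HomogCov
import Groth.Agent.Agf.H584.QExt
import Groth.Prelude.Def_ChGrp

/-!
# The quotient of a product by a diagonally embedded subgroup is a torsor over the quotients of the factors
-/

set_option autoImplicit false
universe u
open CategoryTheory CategoryTheory.Limits MonoidalCategory CartesianMonoidalCategory MonObj GrpObj AlgebraicGeometry

namespace K500.DiagQuot

open Groth.Agent.Agf.H584.QBasic Groth.Agent.Agf.H584.QExt

variable {k : Type u} [Field k]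

theorem props_fst {A B C : Over (Spec (CommRingCat.of k))} (f : A ⟶ C) (w : B ⟶ C) [Flat w.left] [Surjective w.left]
    [QuasiCompact w.left] [LocallyOfFinitePresentation w.left] :
    Flat (pullback.fst f w).left ∧ Surjective (pullback.fst f w).left ∧ QuasiCompact (pullback.fst f w).left ∧
      LocallyOfFinitePresentation (pullback.fst f w).left :=
  ⟨of_isPullback' (P := @Flat) (IsPullback.of_hasPullback f w).flip inferInstance,
    of_isPullback' (P := @Surjective) (IsPullback.of_hasPullback f w).flip inferInstance,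
    of_isPullback' (P := @QuasiCompact) (IsPullback.of_hasPullback f w).flip inferInstance,
    of_isPullback' (P := @LocallyOfFinitePresentation) (IsPullback.of_hasPullback f w).flip inferInstance⟩

/-- The torsor structure on the quotient `D/G ⟶ G₁/G` for a surjection `D ⟶ G₁` with kernel `G₂` which is
injective on `G`. -/
theorem exists_torsor {D G G₁ G₂ Y Q : Over (Spec (CommRingCat.of k))} [GrpObj D] [GrpObj G] [GrpObj G₁] [GrpObj G₂]
    [LocallyOfFiniteType D.hom]
    (i : G ⟶ D) [IsMonHom i] (π : D ⟶ Y) (hπ : IsQ i π) (a : AlgGrp.Action D Y)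
    (ha : ∀ {T : Over (Spec (CommRingCat.of k))} (g g' : T ⟶ D), (g * g') ≫ π = lift g (g' ≫ π) ≫ a.act)
    (d : D ⟶ G₁) [IsMonHom d] [Flat d.left] [Surjective d.left] (e : G₂ ⟶ D) [IsMonHom e] [Mono e]
    (hde : ∀ {T : Over (Spec (CommRingCat.of k))} (g : T ⟶ D), g ≫ d = 1 ↔ ∃ x : T ⟶ G₂, x ≫ e = g)
    (i₁ : G ⟶ G₁) [IsMonHom i₁] [Mono i₁] (hi : i ≫ d = i₁) (π₁ : G₁ ⟶ Q) (hπ₁ : IsQ i₁ π₁) :
    ∃ p : Y ⟶ Q, Flat p.left ∧ Surjective p.left ∧
      IsPullback (a.restrict e).act.left (snd G₂ Y).left p.left p.left := by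
  have := hπ.lft
  have := hπ.flat
  have := hπ.surj
  have := hπ.qc
  have := hπ₁.flat
  have := hπ₁.surj
  have := hπ₁.lft
  have hepi := epi_of π
  have hn : IsLocallyNoetherian Y.left := LocallyOfFiniteType.isLocallyNoetherian Y.hom
  have hπlfp : LocallyOfFinitePresentation π.left := by
    rw [LocallyOfFinitePresentation.iff_locallyOfFiniteType]
    have h2 : LocallyOfFiniteType (π.left ≫ Y.hom) := by
      rw [Over.w]
      infer_instance
    exact locallyOfFiniteType_of_comp π.left Y.hom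
  obtain ⟨p, hp⟩ := hπ.desc (d ≫ π₁) (fun g x => by
    rw [← Category.assoc, MonObj.mul_comp, Category.assoc x, hi, hπ₁.mul_comp, Category.assoc])
  have hact : ∀ {T : Over (Spec (CommRingCat.of k))} (x : T ⟶ G₂) (y : T ⟶ Y), lift x y ≫ (a.restrict e).act =
      lift (x ≫ e) y ≫ a.act := fun x y => AlgGrp.Action.lift_restrict_act e a x y
  have hpf : Flat (π.left ≫ p.left) := by
    rw [← Over.comp_left, hp, Over.comp_left]
    infer_instance
  have hps : Surjective (π.left ≫ p.left) := by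
    rw [← Over.comp_left, hp, Over.comp_left]
    infer_instance
  refine ⟨p, Groth.Agent.Sga3C.FlatOfComp.flat_of_comp π.left p.left, Surjective.of_comp π.left p.left, ?_⟩
  -- lifting points of `Y`
  have hlift : ∀ {T : Over (Spec (CommRingCat.of k))} (y : T ⟶ Y), ∃ (T' : Over (Spec (CommRingCat.of k))) (t : T' ⟶ T)
      (δ : T' ⟶ D), Flat t.left ∧ Surjective t.left ∧ QuasiCompact t.left ∧ LocallyOfFinitePresentation t.left ∧
        t ≫ y = δ ≫ π := fun y => by
    obtain ⟨h1, h2, h3, h4⟩ := props_fst y π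
    exact ⟨pullback y π, pullback.fst y π, pullback.snd y π, h1, h2, h3, h4, pullback.condition⟩
  -- invariance
  have hkd : ∀ {T : Over (Spec (CommRingCat.of k))} (x : T ⟶ G₂), x ≫ e ≫ d = 1 := fun x => by
    rw [← Category.assoc]
    exact (hde _).2 ⟨x, rfl⟩
  have hinv : (a.restrict e).act ≫ p = snd G₂ Y ≫ p := by
    apply AlgGrp.Action.hom_ext_lift₂
    intro T x y
    obtain ⟨T', t, δ, h1, h2, h3, -, h4⟩ := hlift y
    have hepit : Epi t := epi_of t
    rw [← cancel_epi t]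
    have e1 : t ≫ lift x y = lift (t ≫ x) (δ ≫ π) := by rw [comp_lift, h4]
    have e2 : t ≫ lift x y ≫ (a.restrict e).act ≫ p = ((t ≫ x) ≫ e * δ) ≫ π ≫ p := by
      rw [← Category.assoc t, e1, ← Category.assoc (lift _ _), hact, ← ha, Category.assoc]
    have e3 : t ≫ lift x y ≫ snd G₂ Y ≫ p = δ ≫ π ≫ p := by
      rw [lift_snd_assoc, ← Category.assoc t, h4, Category.assoc]
    rw [e2, e3, hp, ← Category.assoc, ← Category.assoc δ, MonObj.mul_comp, Category.assoc (t ≫ x), hkd, _root_.one_mul]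
  let Φ : G₂ ⊗ Y ⟶ pullback p p := pullback.lift (a.restrict e).act (snd G₂ Y) hinv
  have hΦ1 : Φ ≫ pullback.fst p p = (a.restrict e).act := pullback.lift_fst _ _ _
  have hΦ2 : Φ ≫ pullback.snd p p = snd G₂ Y := pullback.lift_snd _ _ _
  have hmono : Mono Φ := by
    constructor
    intro T z z' hz
    have h5 : z ≫ snd G₂ Y = z' ≫ snd G₂ Y := by
      rw [← hΦ2, ← Category.assoc, hz, Category.assoc]
    have h6 : z ≫ (a.restrict e).act = z' ≫ (a.restrict e).act := by
      rw [← hΦ1, ← Category.assoc, hz, Category.assoc]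
    obtain ⟨T', t, δ, h1, h2, h3, -, h4⟩ := hlift (z ≫ snd G₂ Y)
    have hepit : Epi t := epi_of t
    rw [← cancel_epi t]
    have hz1 : t ≫ z = lift (t ≫ z ≫ fst G₂ Y) (δ ≫ π) := by
      apply CartesianMonoidalCategory.hom_ext
      · simp
      · simp [h4]
    have hz2 : t ≫ z' = lift (t ≫ z' ≫ fst G₂ Y) (δ ≫ π) := by
      apply CartesianMonoidalCategory.hom_ext
      · simp
      · simp [← h4, h5]
    have h7 := congrArg (fun w => t ≫ w) h6
    simp only [← Category.assoc] at h7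
    rw [hz1, hz2, hact, hact, ← ha, ← ha, hπ.eq_iff] at h7
    obtain ⟨h, hh⟩ := h7
    have h8 := congrArg (fun w => w ≫ d) hh
    simp only [MonObj.mul_comp, Category.assoc, hi] at h8
    have h9 : ∀ w : T ⟶ G₂ ⊗ Y, t ≫ w ≫ fst G₂ Y ≫ e ≫ d = 1 := fun w => by
      have := hkd (t ≫ w ≫ fst G₂ Y)
      simpa only [Category.assoc] using this
    rw [h9, h9, _root_.one_mul] at h8
    have h10 : h ≫ i₁ = 1 := by
      have := mul_eq_left.1 h8.symm
      exact this
    have h11 : h = 1 := by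
      rw [← cancel_mono i₁, h10, MonObj.one_comp]
    rw [h11, MonObj.one_comp, _root_.mul_one, mul_left_inj, cancel_mono] at hh
    rw [hz1, hz2, hh]
  have hmonol : Mono Φ.left := inferInstance
  -- the cover
  obtain ⟨U₁, u₁, α, c1, c2, c3, c4, hα⟩ := hlift (pullback.fst p p)
  obtain ⟨U₂, u₂, β, c5, c6, c7, c8, hβ⟩ := hlift (u₁ ≫ pullback.snd p p)
  have h12 : ((u₂ ≫ α) ≫ d) ≫ π₁ = (β ≫ d) ≫ π₁ := by
    have e1 : (u₂ ≫ α) ≫ d ≫ π₁ = u₂ ≫ u₁ ≫ pullback.fst p p ≫ p := by
      rw [← hp, Category.assoc, ← Category.assoc α, ← hα, Category.assoc]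
    have e2 : β ≫ d ≫ π₁ = u₂ ≫ u₁ ≫ pullback.snd p p ≫ p := by
      rw [← hp, ← Category.assoc β, ← hβ, Category.assoc, Category.assoc]
    rw [Category.assoc, Category.assoc β, e1, e2, pullback.condition]
  obtain ⟨h, hh⟩ := (hπ₁.eq_iff _ _).1 h12
  let γ : U₂ ⟶ D := β * (h ≫ i)⁻¹
  have hγ : γ ≫ π = β ≫ π := ((hπ.eq_iff γ β).2 ⟨h, by rw [inv_mul_cancel_right]⟩)
  have hγd : γ ≫ d = (u₂ ≫ α) ≫ d := by
    rw [MonObj.mul_comp, GrpObj.inv_comp, Category.assoc h, hi, hh, mul_inv_cancel_right]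
  obtain ⟨x, hx⟩ := (hde ((u₂ ≫ α) * γ⁻¹)).1 (by rw [MonObj.mul_comp, GrpObj.inv_comp, hγd, mul_inv_cancel])
  let s : U₂ ⟶ G₂ ⊗ Y := lift x (γ ≫ π)
  have hs : s ≫ Φ = u₂ ≫ u₁ := by
    apply pullback.hom_ext
    · rw [Category.assoc, hΦ1, hact, hx, ← ha, inv_mul_cancel_right, Category.assoc, Category.assoc, hα]
    · rw [Category.assoc, hΦ2, lift_snd, hγ, Category.assoc, hβ]
  have c9 : Flat (u₂ ≫ u₁).left := by rw [Over.comp_left]; infer_instance
  have c10 : Surjective (u₂ ≫ u₁).left := by rw [Over.comp_left]; infer_instance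
  have c11 : LocallyOfFinitePresentation (u₂ ≫ u₁).left := by rw [Over.comp_left]; infer_instance
  have hiso : IsIso Φ.left := HomogCov.isIso_of_mono Φ.left (u₂ ≫ u₁).left s.left (by
    rw [← Over.comp_left, hs])
  have hisoΦ : IsIso Φ := by
    have : IsIso ((Over.forget _).map Φ) := hiso
    exact isIso_of_reflects_iso Φ (Over.forget _)
  have hpb : IsPullback (a.restrict e).act (snd G₂ Y) p p :=
    IsPullback.of_iso_pullback ⟨hinv⟩ (asIso Φ) hΦ1 hΦ2
  exact hpb.map (Over.forget _)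

end K500.DiagQuot
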