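import Groth.Agent.AGF.K500.RatFin
import Groth.Agent.AGF.K500.DiagQuot
import Groth.Agent.Sga3B.Pts

/-!
# Special groups and birational equivalence of homogeneous spaces
-/

set_option autoImplicit false
universe u
open CategoryTheory CategoryTheory.Limits MonoidalCategory CartesianMonoidalCategory MonObj GrpObj AlgebraicGeometry

namespace K500.BirIrr

open K500.Bir K500.RatFin Groth.Agent.Agf.H584.QBasic Groth.Agent.Agf.H584.QExt

theorem irreducibleSpace_of_bir {S : Scheme.{u}} {X Y : Over S} (h : Scheme.BirationalOver X.hom Y.hom) [hY : IrreducibleSpace Y.left] :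
    IrreducibleSpace X.left := by
  obtain ⟨U, a, b, _, _, _, _⟩ := exists_span h
  have hb : DenseRange b.left := b.left.denseRange
  have ha : DenseRange a.left := a.left.denseRange
  have : Nonempty Y.left := IrreducibleSpace.toNonempty
  have hne : Nonempty U.left := by
    obtain ⟨_, x, rfl⟩ := Dense.nonempty hb
    exact ⟨x⟩
  have hU : IrreducibleSpace U.left := b.left.isOpenEmbedding.irreducibleSpace
  have h1 : IsIrreducible (Set.range a.left) := by
    rw [← Set.image_univ]
    exact (IrreducibleSpace.isIrreducible_univ _).image _ a.left.continuous.continuousOn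
  have h2 : IsIrreducible (closure (Set.range a.left)) := h1.closure
  have h3 : closure (Set.range a.left) = Set.univ := Dense.closure_eq ha
  rw [h3] at h2
  exact (irreducibleSpace_def _).2 h2

variable {k : Type u} [Field k]

theorem universallyOpen_hom (X : Over (Spec (CommRingCat.of k))) [LocallyOfFiniteType X.hom] : UniversallyOpen X.hom := by
  have h1 : Flat X.hom := flat_hom X
  have h2 : LocallyOfFinitePresentation X.hom := by
    have : IsLocallyNoetherian (Spec (CommRingCat.of k)) := inferInstance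
    rw [LocallyOfFinitePresentation.iff_locallyOfFiniteType]
    infer_instance
  infer_instance

theorem quasiCompact_of_surj {X Y : Over (Spec (CommRingCat.of k))} (f : X ⟶ Y) [Surjective f.left] [QuasiCompact X.hom] :
    QuasiCompact Y.hom := by
  have h1 : CompactSpace X.left := QuasiCompact.compactSpace_of_compactSpace X.hom
  have h2 : CompactSpace Y.left := f.left.surjective.compactSpace f.left.continuous
  rw [quasiCompact_iff_compactSpace]
  exact h2

/-- The quotient of `D` by `G` is birational to `(G₁/G) × G₂` if `G₂` is special. -/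
theorem bir_of_special {D G G₁ G₂ Y Q : Over (Spec (CommRingCat.of k))} [GrpObj D] [GrpObj G] [GrpObj G₁] [GrpObj G₂]
    [LocallyOfFiniteType D.hom] [QuasiCompact D.hom] [QuasiCompact G₁.hom] [LocallyOfFiniteType G₂.hom]
    (i : G ⟶ D) [IsMonHom i] (π : D ⟶ Y) (hπ : IsQ i π) (a : AlgGrp.Action D Y)
    (ha : ∀ {T : Over (Spec (CommRingCat.of k))} (g g' : T ⟶ D), (g * g') ≫ π = lift g (g' ≫ π) ≫ a.act)
    (d : D ⟶ G₁) [IsMonHom d] [Flat d.left] [Surjective d.left] (e : G₂ ⟶ D) [IsMonHom e] [Mono e]
    (hde : ∀ {T : Over (Spec (CommRingCat.of k))} (g : T ⟶ D), g ≫ d = 1 ↔ ∃ x : T ⟶ G₂, x ≫ e = g)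
    (i₁ : G ⟶ G₁) [IsMonHom i₁] [Mono i₁] (hi : i ≫ d = i₁) (π₁ : G₁ ⟶ Q) (hπ₁ : IsQ i₁ π₁)
    (hsp : (∀ (X' Y' : Over (Spec (CommRingCat.of k))) (a : AlgGrp.Action G₂ X') (p : X' ⟶ Y'),
      LocallyOfFiniteType X'.hom → QuasiCompact X'.hom → LocallyOfFiniteType Y'.hom → QuasiCompact Y'.hom →
      Flat p.left → Surjective p.left → IsPullback a.act.left (snd G₂ X').left p.left p.left →
      ∀ y : ↥Y'.left, ∃ (W : Y'.left.Opens) (s : (W : Scheme.{u}) ⟶ X'.left), y ∈ W ∧ s ≫ p.left = W.ι))
    (hirr : IrreducibleSpace G₁.left) : Scheme.BirationalOver Y.hom (G₂ ⊗ Q).hom := by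
  have := hπ.lft
  have := hπ.surj
  have := hπ₁.lft
  have := hπ₁.surj
  obtain ⟨p, hp1, hp2, hp3⟩ := DiagQuot.exists_torsor i π hπ a ha d e hde i₁ hi π₁ hπ₁
  have hYqc : QuasiCompact Y.hom := quasiCompact_of_surj π
  have hQqc : QuasiCompact Q.hom := quasiCompact_of_surj π₁
  have hQirr : IrreducibleSpace Q.left := by
    exact Function.Surjective.irreducibleSpace π₁.left.continuous π₁.left.surjective
  have hne : Nonempty Q.left := IrreducibleSpace.toNonempty
  obtain ⟨y⟩ := hne
  obtain ⟨W, s, hyW, hs⟩ := hsp Y Q (a.restrict e) p hπ.lft hYqc hπ₁.lft hQqc hp1 hp2 hp3 y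
  have hW : Dense (W : Set Q.left) := W.2.dense ⟨y, hyW⟩
  have hG : UniversallyOpen G₂.hom := universallyOpen_hom G₂
  have hn : IsLocallyNoetherian Q.left := LocallyOfFiniteType.isLocallyNoetherian Q.hom
  have hplft : LocallyOfFiniteType p.left := by
    have h2 : LocallyOfFiniteType (p.left ≫ Q.hom) := by
      rw [Over.w]
      infer_instance
    exact locallyOfFiniteType_of_comp p.left Q.hom
  have hplfp : LocallyOfFinitePresentation p.left := by
    rw [LocallyOfFinitePresentation.iff_locallyOfFiniteType]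
    exact hplft
  have hpo : UniversallyOpen p.left := inferInstance
  exact bir_of_torsor (a.restrict e) p p.left.isOpenMap hp3 W hW s hs

/-- Renaming the variables. -/
noncomputable def affIsoFin {n : Type u} {r : ℕ} (e : n ≃ Fin r) :
    Aff k n ≅ Over.mk (Spec.map (CommRingCat.ofHom (algebraMap k (MvPolynomial (Fin r) k)))) :=
  Over.isoMk (Scheme.Spec.mapIso (RingEquiv.toCommRingCatIso (MvPolynomial.renameEquiv k e.symm).toRingEquiv).op) (by
    change Spec.map _ ≫ Spec.map _ = Spec.map _
    rw [← Spec.map_comp]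
    congr 1
    ext x
    simp)

/-- A rational scheme locally of finite type over a field is irreducible and birational to a finite dimensional affine
space. -/
theorem exists_fin {X : Over (Spec (CommRingCat.of k))} [LocallyOfFiniteType X.hom] [Scheme.IsRationalOver X.hom] :
    IrreducibleSpace X.left ∧ ∃ r : ℕ, Scheme.BirationalOver X.hom
      (Over.mk (Spec.map (CommRingCat.ofHom (algebraMap k (MvPolynomial (Fin r) k))))).hom := by
  obtain ⟨n, hn⟩ := Scheme.IsRationalOver.exists_birationalOver_affineSpace X.hom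
  have h1 : Scheme.BirationalOver X.hom (Aff k n).hom := hn.trans (bir_affineSpace n)
  have hfin : Finite n := finite_of_bir h1
  obtain ⟨r, ⟨e⟩⟩ := Finite.exists_equiv_fin n
  have hirr : IrreducibleSpace (Aff k n).left :=
    inferInstanceAs (IrreducibleSpace (PrimeSpectrum (MvPolynomial n k)))
  exact ⟨irreducibleSpace_of_bir h1, r, h1.trans (bir_of_iso (affIsoFin e))⟩

end K500.BirIrr
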