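import Groth.Agent.AGF.K500.HomogCov
import Groth.Agent.Agf.H584.QBc

/-!
# Affineness of an orbit of a group with affine quotients
-/

set_option autoImplicit false
universe u
open CategoryTheory CategoryTheory.Limits MonoidalCategory CartesianMonoidalCategory MonObj GrpObj AlgebraicGeometry

namespace K500.HomogAff

open Groth.Agent.Agf.H584.QBasic Groth.Agent.Agf.H584.QExt Groth.Agent.Agf.H584.QBc

/-- Fibres of the orbit map after base change. -/
theorem eq_iff_bc {S S' : Scheme.{u}} (f : S' ⟶ S) {G H X : Over S} [GrpObj G] {i : H ⟶ G} {p : G ⟶ X}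
    (h : ∀ {T : Over S} (g g' : T ⟶ G), g ≫ p = g' ≫ p ↔ ∃ h : T ⟶ H, g' = g * (h ≫ i)) {T : Over S'}
    (g g' : T ⟶ Red.bc f G) : g ≫ (Over.pullback f).map p = g' ≫ (Over.pullback f).map p ↔
      ∃ h : T ⟶ Red.bc f H, g' = g * (h ≫ (Over.pullback f).map i) := by
  have e1 : g ≫ (Over.pullback f).map p = g' ≫ (Over.pullback f).map p ↔
      (Groth.Agent.Sga3B.BcPts.bcEquiv f T G).symm g ≫ p =
        (Groth.Agent.Sga3B.BcPts.bcEquiv f T G).symm g' ≫ p := by
    rw [← Groth.Agent.Sga3B.BcPts.bcEquiv_symm_comp, ← Groth.Agent.Sga3B.BcPts.bcEquiv_symm_comp]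
    exact (Groth.Agent.Sga3B.BcPts.bcEquiv f T X).symm.injective.eq_iff.symm
  rw [e1, h]
  constructor
  · rintro ⟨x, hx⟩
    refine ⟨Groth.Agent.Sga3B.BcPts.bcEquiv f T H x, ?_⟩
    have := congrArg (Groth.Agent.Sga3B.BcPts.bcEquiv f T G) hx
    rw [Groth.Agent.Sga3B.BcPts.bcEquiv_mul, Equiv.apply_symm_apply, Equiv.apply_symm_apply,
      Groth.Agent.Sga3B.BcPts.bcEquiv_comp] at this
    exact this
  · rintro ⟨x, hx⟩
    refine ⟨(Groth.Agent.Sga3B.BcPts.bcEquiv f T H).symm x, ?_⟩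
    apply (Groth.Agent.Sga3B.BcPts.bcEquiv f T G).injective
    rw [Groth.Agent.Sga3B.BcPts.bcEquiv_mul, Equiv.apply_symm_apply, Equiv.apply_symm_apply,
      Groth.Agent.Sga3B.BcPts.bcEquiv_comp, Equiv.apply_symm_apply]
    exact hx

variable {k : Type u} [Field k]

/-- The target of a morphism from a group with affine quotients which is locally surjective and whose fibres are the
cosets of a closed subgroup is affine. -/
theorem isAffine_of_cover {K M Q' : Over (Spec (CommRingCat.of k))} [GrpObj K] [IsAffine K.left]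
    [LocallyOfFiniteType K.hom] (hK : AffQuot K) [GrpObj M] (a : M ⟶ K) [IsMonHom a] [IsClosedImmersion a.left]
    (ρ : K ⟶ Q') (hρ : ∀ {T : Over (Spec (CommRingCat.of k))} (g g' : T ⟶ K), g ≫ ρ = g' ≫ ρ ↔ ∃ h : T ⟶ M, g' = g * (h ≫ a))
    {W : Over (Spec (CommRingCat.of k))} (c : W ⟶ Q') [Flat c.left] [Surjective c.left] [LocallyOfFinitePresentation c.left]
    (κ : W ⟶ K) (hκ : κ ≫ ρ = c) : IsAffine Q'.left := by
  obtain ⟨X, w, hw⟩ := exists_isQ a (inferInstance : IsClosedImmersion a.left)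
  have hX : IsAffine X.left := hK M X a w inferInstance hw
  have := hw.flat
  have := hw.surj
  have := hw.qc
  have hepi := epi_of w
  obtain ⟨ψ, hψ⟩ := hw.desc ρ (fun g x => ((hρ g (g * (x ≫ a))).2 ⟨x, rfl⟩).symm)
  have hmono : Mono ψ := by
    constructor
    intro T z z' hz
    let t₁ : pullback z w ⟶ T := pullback.fst z w
    let t₂ : pullback (t₁ ≫ z') w ⟶ pullback z w := pullback.fst (t₁ ≫ z') w
    have hP : ∀ {A : Over (Spec (CommRingCat.of k))} (f : A ⟶ X), Flat (pullback.fst f w).left ∧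
        Surjective (pullback.fst f w).left ∧ QuasiCompact (pullback.fst f w).left := fun f =>
      ⟨of_isPullback' (P := @Flat) (IsPullback.of_hasPullback f w).flip inferInstance,
        of_isPullback' (P := @Surjective) (IsPullback.of_hasPullback f w).flip inferInstance,
        of_isPullback' (P := @QuasiCompact) (IsPullback.of_hasPullback f w).flip inferInstance⟩
    obtain ⟨_, _, _⟩ := hP z
    obtain ⟨_, _, _⟩ := hP (t₁ ≫ z')
    have e1 : Epi t₁ := epi_of t₁
    have e2 : Epi t₂ := epi_of t₂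
    rw [← cancel_epi t₁, ← cancel_epi t₂]
    have h1 : t₂ ≫ t₁ ≫ z = (t₂ ≫ pullback.snd z w) ≫ w := by
      rw [Category.assoc]
      congr 1
      exact pullback.condition
    have h2 : t₂ ≫ t₁ ≫ z' = pullback.snd (t₁ ≫ z') w ≫ w := pullback.condition
    rw [h1, h2, hw.eq_iff, ← hρ, ← hψ, ← Category.assoc, ← Category.assoc, ← h1, ← h2]
    simp only [Category.assoc]
    rw [hz]
  have hmonol : Mono ψ.left := inferInstance
  have hiso : IsIso ψ.left := HomogCov.isIso_of_mono ψ.left c.left (κ ≫ w).left (by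
    rw [← Over.comp_left, Category.assoc, hψ, hκ])
  exact IsAffine.of_isIso (inv ψ.left)

/-- The homogeneous space of `R` by `H` is affine if the kernel `K` of a homomorphism `qR : R ⟶ Gb` has affine quotients
and `H` maps onto `Gb`. -/
theorem isAffine_of_kernel {K R H Q Gb G U : Over (Spec (CommRingCat.of k))} [GrpObj K] [GrpObj R] [GrpObj H] [GrpObj Gb]
    [IsAffine K.left] [LocallyOfFiniteType K.hom] (hK : AffQuot K) (j : H ⟶ R) [IsMonHom j] [IsClosedImmersion j.left]
    (π : R ⟶ Q) (hπ : ∀ {T : Over (Spec (CommRingCat.of k))} (g g' : T ⟶ R), g ≫ π = g' ≫ π ↔ ∃ h : T ⟶ H, g' = g * (h ≫ j))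
    (qR : R ⟶ Gb) [IsMonHom qR] (iK : K ⟶ R) [IsMonHom iK] (hk : AlgGrp.IsKernel iK qR)
    (q : G ⟶ Gb) [Flat q.left] [Surjective q.left] [LocallyOfFinitePresentation q.left] (p : G ⟶ H) (hp : p ≫ j ≫ qR = q)
    (c : U ⟶ Q) [Flat c.left] [Surjective c.left] [LocallyOfFinitePresentation c.left] (s : U ⟶ R) (hs : s ≫ π = c) :
    IsAffine Q.left := by
  have hmj : Mono j := Over.mono_of_mono_left j
  have hmK : Mono iK := ⟨fun x y h => hk.hom_ext h (toUnit_unique _ _)⟩
  obtain ⟨M, _, a, b, ha, hb, hM⟩ := Groth.Agent.Sga3B.Parab.Inter.exists_inter iK j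
  have hacl : IsClosedImmersion a.left := of_isPullback' (P := @IsClosedImmersion) hM.flip inferInstance
  have hkone : ∀ {T : Over (Spec (CommRingCat.of k))} (x : T ⟶ K), x ≫ iK ≫ qR = 1 := fun x => by
    rw [hk.w, ← Category.assoc, Hom.one_def]
    congr 1
    exact toUnit_unique _ _
  have hw : pullback.fst (s ≫ qR) q ≫ s ≫ qR = pullback.snd (s ≫ qR) q ≫ q := pullback.condition
  let r : pullback (s ≫ qR) q ⟶ R := pullback.fst (s ≫ qR) q ≫ s
  let h : pullback (s ≫ qR) q ⟶ H := pullback.snd (s ≫ qR) q ≫ p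
  have h1 : (r * (h ≫ j)⁻¹) ≫ qR = 1 := by
    rw [MonObj.mul_comp, GrpObj.inv_comp, mul_inv_eq_one]
    simp only [r, h, Category.assoc]
    rw [hw, hp]
  have h1' : (r * (h ≫ j)⁻¹) ≫ qR = toUnit _ ≫ η[Gb] := h1
  let κ := hk.lift (r * (h ≫ j)⁻¹) (toUnit _) h1'
  have hκ : κ ≫ iK = r * (h ≫ j)⁻¹ := hk.lift_fst _ _ h1'
  have hc1 : Flat (pullback.fst (s ≫ qR) q).left :=
    of_isPullback' (P := @Flat) (IsPullback.of_hasPullback (s ≫ qR) q).flip inferInstance
  have hc2 : Surjective (pullback.fst (s ≫ qR) q).left :=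
    of_isPullback' (P := @Surjective) (IsPullback.of_hasPullback (s ≫ qR) q).flip inferInstance
  have hc3 : LocallyOfFinitePresentation (pullback.fst (s ≫ qR) q).left :=
    of_isPullback' (P := @LocallyOfFinitePresentation) (IsPullback.of_hasPullback (s ≫ qR) q).flip inferInstance
  have hc1' : Flat (pullback.fst (s ≫ qR) q ≫ c).left := by rw [Over.comp_left]; infer_instance
  have hc2' : Surjective (pullback.fst (s ≫ qR) q ≫ c).left := by rw [Over.comp_left]; infer_instance
  have hc3' : LocallyOfFinitePresentation (pullback.fst (s ≫ qR) q ≫ c).left := by rw [Over.comp_left]; infer_instance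
  refine isAffine_of_cover hK a (iK ≫ π) (fun {T} g g' => ?_) (pullback.fst (s ≫ qR) q ≫ c) κ ?_
  · rw [← Category.assoc, ← Category.assoc, hπ]
    constructor
    · rintro ⟨x, hx⟩
      have h2 : (g⁻¹ * g') ≫ iK = x ≫ j := by
        rw [MonObj.mul_comp, GrpObj.inv_comp, hx, inv_mul_cancel_left]
      obtain ⟨m, hm, -⟩ := hM.exists_lift (g⁻¹ * g') x h2
      exact ⟨m, by rw [hm, mul_inv_cancel_left]⟩
    · rintro ⟨x, rfl⟩
      refine ⟨x ≫ b, ?_⟩
      rw [MonObj.mul_comp, Category.assoc, Category.assoc, hM.w]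
  · rw [← Category.assoc, hκ, ← hs, ← Category.assoc]
    exact ((hπ (r * (h ≫ j)⁻¹) r).2 ⟨h, by rw [inv_mul_cancel_right]⟩)

end K500.HomogAff
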