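import Groth.Prelude.Def_ChGrp
import Mathlib.AlgebraicGeometry.Sites.Fpqc
import Mathlib.AlgebraicGeometry.Morphisms.FlatDescent

/-!
# Local triviality for the fppf topology
-/

set_option autoImplicit false
universe u
open CategoryTheory CategoryTheory.Limits MonoidalCategory CartesianMonoidalCategory MonObj GrpObj AlgebraicGeometry

namespace K500.HomogCov

/-- An fppf locally trivial scheme has a section over a single fppf covering. -/
theorem exists_cover {Y : Scheme.{u}} (X : Over Y) (h : NonAbH1.IsLocallyTrivialFor Scheme.fppfPrecoverage X) :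
    ∃ (U : Scheme.{u}) (c : U ⟶ Y) (s : U ⟶ X.left), Flat c ∧ Surjective c ∧ LocallyOfFinitePresentation c ∧
      s ≫ X.hom = c := by
  obtain ⟨R, hR, hsec⟩ := h
  have h1 : ∀ y : Y, ∃ (V : Scheme.{u}) (v : V ⟶ Y), R v ∧ y ∈ Set.range v := by
    intro y
    obtain ⟨V, v, hv, hy⟩ := (inferInstance : Scheme.JointlySurjective (Scheme.precoverage
      (@Flat ⊓ @LocallyOfFinitePresentation : MorphismProperty Scheme.{u}))).exists_eq R hR y
    exact ⟨V, v, hv, hy⟩
  choose V v hv hy using h1
  have h2 : ∀ y, (@Flat ⊓ @LocallyOfFinitePresentation : MorphismProperty Scheme.{u}) (v y) := fun y => hR.2 (hv y)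
  choose s hs using fun y => hsec (v y) (hv y)
  refine ⟨∐ V, Sigma.desc v, Sigma.desc s, ?_, ?_, ?_, ?_⟩
  · exact IsZariskiLocalAtSource.sigmaDesc (P := @Flat) fun y => (h2 y).1
  · refine ⟨fun y => ?_⟩
    obtain ⟨z, hz⟩ := hy y
    refine ⟨Sigma.ι V y z, ?_⟩
    rw [← Scheme.Hom.comp_apply, Sigma.ι_desc, hz]
  · exact IsZariskiLocalAtSource.sigmaDesc (P := @LocallyOfFinitePresentation) fun y => (h2 y).2
  · ext1 y
    rw [← Category.assoc, Sigma.ι_desc, Sigma.ι_desc]
    exact hs y

/-- A monomorphism which has a section after an fppf covering is an isomorphism. -/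
theorem isIso_of_mono {X Y U : Scheme.{u}} (m : X ⟶ Y) [Mono m] (c : U ⟶ Y) [Flat c] [Surjective c]
    [LocallyOfFinitePresentation c] (s : U ⟶ X) (h : s ≫ m = c) : IsIso m := by
  have h1 : IsIso (pullback.fst c m) := by
    refine ⟨pullback.lift (𝟙 U) s (by rw [Category.id_comp, h]), ?_, pullback.lift_fst _ _ _⟩
    rw [← cancel_mono (pullback.fst c m), Category.assoc, pullback.lift_fst, Category.comp_id, Category.id_comp]
  exact MorphismProperty.of_isPullback_of_descendsAlong (P := MorphismProperty.isomorphisms Scheme.{u})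
    (Q := @Surjective ⊓ @Flat ⊓ @LocallyOfFinitePresentation) (IsPullback.of_hasPullback c m)
    ⟨⟨inferInstance, inferInstance⟩, inferInstance⟩ h1

end K500.HomogCov
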