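import Groth.Agent.AGF.K500.NilPow

/-!
# Points of group schemes which are trivial modulo an ideal of square zero commute
-/

set_option autoImplicit false
universe u
open CategoryTheory CategoryTheory.Limits MonoidalCategory CartesianMonoidalCategory MonObj GrpObj AlgebraicGeometry

namespace K500.NilComm

open K500.WKerCorr K500.WKerIso K500.NilPow Groth.Agent.Grpsch.Cotangent

variable {k : Type u} [Field k] {G : Over (Spec (CommRingCat.of k))} [GrpObj G] [LocallyOfFiniteType G.hom]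

section alg

variable {Q : Type u} [CommRing Q] [Algebra k Q] (ε : Q →ₐ[k] k)
  (hε : ∀ x y, ε x = 0 → ε y = 0 → x * y = 0)

/-- `(a, b) ↦ σ a + τ b - ε a` for two points of a square-zero algebra which agree modulo an ideal of square zero. -/
noncomputable def addMap {D : Type u} [CommRing D] [Algebra k D] (σ τ : Q →ₐ[k] D)
    (h : ∀ a b, (σ a - algebraMap k D (ε a)) * (τ b - algebraMap k D (ε b)) = 0) : Q2 ε →ₐ[k] D where
  toFun z := σ z.1.1 + τ z.1.2 - algebraMap k D (ε z.1.1)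
  map_one' := by simp
  map_mul' a b := by
    have ha : ε a.1.1 = ε a.1.2 := a.2
    have hb : ε b.1.1 = ε b.1.2 := b.2
    have h1 := h a.1.1 b.1.2
    have h2 := h b.1.1 a.1.2
    simp only [MulMemClass.coe_mul, Prod.fst_mul, Prod.snd_mul, map_mul]
    rw [← hb] at h1
    rw [← ha] at h2
    linear_combination - h1 - h2
  map_zero' := by simp
  map_add' a b := by
    simp only [AddMemClass.coe_add, Prod.fst_add, Prod.snd_add, map_add]
    ring
  commutes' c := by simp

include hε in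
omit [LocallyOfFiniteType G.hom] in
/-- Two tangent vectors along a square zero algebra commute. -/
theorem commute_tangent [IsSeparated G.hom] (t : Sp k Q ⟶ G) (ht : SpMap ε ≫ t = 1) {D : Type u} [CommRing D] [Algebra k D]
    (σ τ : Q →ₐ[k] D) (h : ∀ a b, (σ a - algebraMap k D (ε a)) * (τ b - algebraMap k D (ε b)) = 0) :
    (SpMap σ ≫ t) * (SpMap τ ≫ t) = (SpMap τ ≫ t) * (SpMap σ ≫ t) := by
  have h0 : SpMap (mulMap ε hε 0) ≫ t = 1 := by
    have h1 : mulMap ε hε 0 = (Algebra.ofId k Q).comp ε := by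
      ext a
      simp [mulMap_apply, Algebra.ofId_apply]
    rw [h1, SpMap_comp, Category.assoc, ht, MonObj.comp_one]
  have hi1 : ∀ a, ε (AlgHom.id k Q a) = ε (mulMap ε hε 0 a) := by
    intro a
    simp [mulMap_apply]
  let i1 : Q →ₐ[k] Q2 ε := pair ε (AlgHom.id k Q) (mulMap ε hε 0) hi1
  let i2 : Q →ₐ[k] Q2 ε := pair ε (mulMap ε hε 0) (AlgHom.id k Q) (fun a => (hi1 a).symm)
  have hu : (SpMap i1 ≫ t) * (SpMap i2 ≫ t) = (SpMap i2 ≫ t) * (SpMap i1 ≫ t) := by
    apply sp_hom_ext G ε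
    · rw [MonObj.comp_mul, MonObj.comp_mul, ← Category.assoc, ← Category.assoc, ← SpMap_comp, ← SpMap_comp]
      have e2 : (p1 ε).comp i1 = AlgHom.id k Q := rfl
      have e3 : (p1 ε).comp i2 = mulMap ε hε 0 := rfl
      rw [e2, e3, h0, _root_.mul_one, _root_.one_mul]
    · rw [MonObj.comp_mul, MonObj.comp_mul, ← Category.assoc, ← Category.assoc, ← SpMap_comp, ← SpMap_comp]
      have e2 : (p2 ε).comp i1 = mulMap ε hε 0 := rfl
      have e3 : (p2 ε).comp i2 = AlgHom.id k Q := rfl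
      rw [e2, e3, h0, _root_.mul_one, _root_.one_mul]
  have e1 : (addMap ε σ τ h).comp i1 = σ := by
    ext a
    change σ a + τ (mulMap ε hε 0 a) - algebraMap k D (ε a) = σ a
    rw [mulMap_apply, zero_smul, add_zero, AlgHom.commutes]
    ring
  have e2 : (addMap ε σ τ h).comp i2 = τ := by
    ext a
    change σ (mulMap ε hε 0 a) + τ a - algebraMap k D (ε (mulMap ε hε 0 a)) = τ a
    rw [mulMap_apply, zero_smul, add_zero, AlgHom.commutes, AlgHom.commutes]
    simp
  have e1' : SpMap σ ≫ t = SpMap (addMap ε σ τ h) ≫ SpMap i1 ≫ t := by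
    rw [← Category.assoc, ← SpMap_comp, e1]
  have e2' : SpMap τ ≫ t = SpMap (addMap ε σ τ h) ≫ SpMap i2 ≫ t := by
    rw [← Category.assoc, ← SpMap_comp, e2]
  rw [e1', e2', ← MonObj.comp_mul, hu, MonObj.comp_mul]

end alg

variable (G) in
/-- There is a universal first order infinitesimal point. -/
theorem exists_univ_sq : ∃ (Q : Type u) (_ : CommRing Q) (_ : Algebra k Q) (ε : Q →ₐ[k] k)
    (_ : ∀ x y, ε x = 0 → ε y = 0 → x * y = 0) (t : Sp k Q ⟶ G), SpMap ε ≫ t = 1 ∧
    ∀ {D D₀ : Type u} [CommRing D] [CommRing D₀] [Algebra k D] [Algebra k D₀]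
    (π : D →ₐ[k] D₀) (_ : Function.Surjective π) (_ : (RingHom.ker π) ^ 2 = ⊥) (s : sp k D ⟶ G)
    (_ : spMap k π ≫ s = 1), ∃ σ : Q →ₐ[k] D, (∀ a, π (σ a) = algebraMap k D₀ (ε a)) ∧ SpMap σ ≫ t = s := by
  obtain ⟨C, _, _, _, e, w, _, hw, he⟩ := exists_chart (η[G] : 𝟙_ (Over (Spec (CommRingCat.of k))) ⟶ G)
  let 𝔪 : Ideal C := RingHom.ker e
  let Q := C ⧸ (𝔪 ^ 2)
  let ε : Q →ₐ[k] k := Ideal.Quotient.liftₐ (𝔪 ^ 2) e (fun a ha => Ideal.pow_le_self two_ne_zero ha)
  have hε : ∀ x y : Q, ε x = 0 → ε y = 0 → x * y = 0 := by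
    intro x y hx hy
    obtain ⟨x, rfl⟩ := Ideal.Quotient.mk_surjective x
    obtain ⟨y, rfl⟩ := Ideal.Quotient.mk_surjective y
    rw [← map_mul, Ideal.Quotient.eq_zero_iff_mem, pow_two]
    exact Ideal.mul_mem_mul (show e x = 0 from hx) (show e y = 0 from hy)
  let t : sp k Q ⟶ G := Over.homMk (Spec.map (CommRingCat.ofHom (Ideal.Quotient.mk (𝔪 ^ 2))) ≫ w) (by
    rw [Category.assoc, hw, ← Spec.map_comp, ← CommRingCat.ofHom_comp]
    rfl)
  have ht : SpMap ε ≫ t = 1 := by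
    ext1
    rw [Over.comp_left, one_left, ← he]
    change Spec.map _ ≫ Spec.map _ ≫ w = Spec.map _ ≫ _
    rw [← Category.assoc, ← Spec.map_comp, ← CommRingCat.ofHom_comp]
    have h1 : (CommRingCat.ofHom (algebraMap k k) : CommRingCat.of k ⟶ CommRingCat.of k) = 𝟙 _ := rfl
    rw [h1, Spec.map_id, Category.id_comp]
    rfl
  refine ⟨Q, inferInstance, inferInstance, ε, hε, t, ht, ?_⟩
  intro D D₀ _ _ _ _ π hπ hsq s hs
  have hsurj : Function.Surjective (Spec.map (CommRingCat.ofHom π.toRingHom)) :=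
    surjective_specMap_of_nilp π.toRingHom hπ ⟨2, hsq⟩
  have h0 : Spec.map (CommRingCat.ofHom π.toRingHom) ≫ s.left =
      Spec.map (CommRingCat.ofHom (algebraMap k D₀)) ≫ Spec.map (CommRingCat.ofHom e.toRingHom) ≫ w := by
    have h1 := congrArg (fun z => z.left) hs
    rw [one_left, ← he] at h1
    exact h1
  have hrange : Set.range s.left ⊆ Set.range w := by
    rintro _ ⟨x, rfl⟩
    obtain ⟨y, rfl⟩ := hsurj x
    rw [← Scheme.Hom.comp_apply, h0, ← Category.assoc, Scheme.Hom.comp_apply]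
    exact ⟨_, rfl⟩
  let l := IsOpenImmersion.lift w s.left hrange
  have hl : l ≫ w = s.left := IsOpenImmersion.lift_fac _ _ _
  obtain ⟨σ, hσ⟩ : ∃ σ : CommRingCat.of C ⟶ CommRingCat.of D, l = Spec.map σ := ⟨Spec.preimage l, by simp⟩
  have hσk : ∀ c : k, σ.hom (algebraMap k C c) = algebraMap k D c := by
    have h1 : Spec.map σ ≫ Spec.map (CommRingCat.ofHom (algebraMap k C)) = Spec.map (CommRingCat.ofHom (algebraMap k D)) := by
      rw [← hw, ← Category.assoc, ← hσ, hl]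
      exact Over.w s
    rw [← Spec.map_comp] at h1
    intro c
    exact congrArg (fun z => z.hom c) (Spec.map_injective h1)
  have hσe : ∀ x : C, π (σ.hom x) = algebraMap k D₀ (e x) := by
    have h1 : Spec.map (CommRingCat.ofHom π.toRingHom) ≫ Spec.map σ =
        Spec.map (CommRingCat.ofHom (algebraMap k D₀)) ≫ Spec.map (CommRingCat.ofHom e.toRingHom) := by
      rw [← cancel_mono w, Category.assoc, ← hσ, hl, h0, Category.assoc]
    rw [← Spec.map_comp, ← Spec.map_comp] at h1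
    intro x
    exact congrArg (fun z => z.hom x) (Spec.map_injective h1)
  let σ' : C →ₐ[k] D := { σ.hom with commutes' := hσk }
  have hσ'0 : ∀ a ∈ 𝔪 ^ 2, σ' a = 0 := by
    have h1 : 𝔪 ^ 2 ≤ RingHom.ker σ' := by
      have h2 : 𝔪 ≤ (RingHom.ker π).comap σ' := by
        intro x hx
        rw [Ideal.mem_comap, RingHom.mem_ker]
        change π (σ.hom x) = 0
        rw [hσe, show e x = 0 from hx, map_zero]
      have h3 : 𝔪 ^ 2 ≤ ((RingHom.ker π) ^ 2).comap σ' := (Ideal.pow_right_mono h2 2).trans (Ideal.le_comap_pow _ _)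
      rw [hsq] at h3
      exact h3
    exact fun a ha => h1 ha
  let σb : Q →ₐ[k] D := Ideal.Quotient.liftₐ (𝔪 ^ 2) σ' hσ'0
  refine ⟨σb, fun a => ?_, ?_⟩
  · obtain ⟨x, rfl⟩ := Ideal.Quotient.mk_surjective a
    exact hσe x
  · ext1
    rw [Over.comp_left]
    change Spec.map _ ≫ Spec.map _ ≫ w = _
    rw [← Category.assoc, ← Spec.map_comp, ← CommRingCat.ofHom_comp, ← hl, hσ]
    congr 1

/-- Points which are trivial modulo an ideal of square zero commute. -/
theorem commute_of_sq {D D₀ : Type u} [CommRing D] [CommRing D₀] (c : Spec (CommRingCat.of D) ⟶ Spec (CommRingCat.of k))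
    (π : D →+* D₀) (hπ : Function.Surjective π) (hsq : (RingHom.ker π) ^ 2 = ⊥) (s t : Over.mk c ⟶ G)
    (hs : Spec.map (CommRingCat.ofHom π) ≫ s.left = Spec.map (CommRingCat.ofHom π) ≫ (1 : Over.mk c ⟶ G).left)
    (ht : Spec.map (CommRingCat.ofHom π) ≫ t.left = Spec.map (CommRingCat.ofHom π) ≫ (1 : Over.mk c ⟶ G).left) :
    s * t = t * s := by
  obtain ⟨c₀, rfl⟩ : ∃ c₀ : CommRingCat.of k ⟶ CommRingCat.of D, c = Spec.map c₀ := ⟨Spec.preimage c, by simp⟩
  let _ : Algebra k D := c₀.hom.toAlgebra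
  let _ : Algebra k D₀ := (π.comp c₀.hom).toAlgebra
  let π' : D →ₐ[k] D₀ := { π with commutes' := fun _ => rfl }
  change sp k D ⟶ G at s t
  have hsep : IsSeparated G.hom := Groth.Agent.Localalg.GrpSchComp2.isSeparated_hom G
  obtain ⟨Q, _, _, ε, hε, u, hu, H⟩ := exists_univ_sq G
  have key : ∀ s : sp k D ⟶ G, Spec.map (CommRingCat.ofHom π) ≫ s.left = Spec.map (CommRingCat.ofHom π) ≫ (1 : sp k D ⟶ G).left →
      spMap k π' ≫ s = 1 := by
    intro s hs
    have h1 : spMap k π' ≫ s = spMap k π' ≫ 1 := by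
      ext1
      exact hs
    rw [h1, MonObj.comp_one]
  obtain ⟨σ, hσ, hσs⟩ := H π' hπ hsq s (key s hs)
  obtain ⟨τ, hτ, hτt⟩ := H π' hπ hsq t (key t ht)
  rw [← hσs, ← hτt]
  refine commute_tangent ε hε u hu σ τ (fun a b => ?_)
  have h1 : (σ a - algebraMap k D (ε a)) ∈ RingHom.ker π' := by
    rw [RingHom.mem_ker, map_sub, hσ, AlgHom.commutes, sub_self]
  have h2 : (τ b - algebraMap k D (ε b)) ∈ RingHom.ker π' := by
    rw [RingHom.mem_ker, map_sub, hτ, AlgHom.commutes, sub_self]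
  have h3 : (σ a - algebraMap k D (ε a)) * (τ b - algebraMap k D (ε b)) ∈ (RingHom.ker π) ^ 2 := by
    rw [pow_two]
    exact Ideal.mul_mem_mul h1 h2
  rw [hsq] at h3
  exact h3

end K500.NilComm
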