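import Mathlib.AlgebraicGeometry.Morphisms.QuasiCompact
import Mathlib.AlgebraicGeometry.Morphisms.QuasiSeparated
import Mathlib.AlgebraicGeometry.Morphisms.UniversallyOpen
import Mathlib.AlgebraicGeometry.Morphisms.Flat
import Mathlib.AlgebraicGeometry.PullbackCarrier
import Mathlib.Topology.Spectral.Prespectral

/-!
# Descent of quasi-compactness

* `quasiCompact_of_isPullback`: if the base change of `f` along a surjective quasi-compact morphism is quasi-compact,
  then `f` is quasi-compact.
* `quasiCompact_of_isPullback_open`: the same along a surjective open morphism.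
-/

set_option autoImplicit false
universe u
open CategoryTheory CategoryTheory.Limits AlgebraicGeometry

namespace K500.QcDesc

/-- Quasi-compactness descends along surjective quasi-compact morphisms. -/
theorem quasiCompact_of_isPullback {X Y X' Y' : Scheme.{u}} {g' : X' ⟶ X} {f' : X' ⟶ Y'} {f : X ⟶ Y} {g : Y' ⟶ Y}
    (h : IsPullback g' f' f g) [Surjective g] [QuasiCompact g] [QuasiCompact f'] : QuasiCompact f := by
  have hs : Surjective g' := MorphismProperty.of_isPullback (P := @Surjective) h.flip ‹_›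
  rw [quasiCompact_iff_forall_isAffineOpen]
  intro V hV
  have h1 : IsCompact (f' ⁻¹ᵁ g ⁻¹ᵁ V : Set X') :=
    f'.isCompact_preimage (g.isCompact_preimage hV.isCompact)
  have h2 : (f ⁻¹ᵁ V : Set X) = g' '' (f' ⁻¹ᵁ g ⁻¹ᵁ V : Set X') := by
    have h3 : f' ⁻¹ᵁ g ⁻¹ᵁ V = g' ⁻¹ᵁ f ⁻¹ᵁ V := by
      rw [← Scheme.Hom.comp_preimage, ← Scheme.Hom.comp_preimage, h.w]
    rw [h3]
    exact (Set.image_preimage_eq _ hs.surj).symm
  rw [h2]
  exact h1.image g'.continuous

/-- Quasi-compactness descends along surjective open morphisms. -/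
theorem quasiCompact_of_isPullback_open {X Y X' Y' : Scheme.{u}} {g' : X' ⟶ X} {f' : X' ⟶ Y'} {f : X ⟶ Y} {g : Y' ⟶ Y}
    (h : IsPullback g' f' f g) [Surjective g] (ho : IsOpenMap g) [QuasiCompact f'] : QuasiCompact f := by
  have hs : Surjective g' := MorphismProperty.of_isPullback (P := @Surjective) h.flip ‹_›
  rw [quasiCompact_iff_forall_isAffineOpen]
  intro V hV
  obtain ⟨U, hU, hUV⟩ := IsOpenMap.exists_opens_image_eq_of_prespectralSpace g.continuous ho
    (U := (V : Set Y)) (fun y _ => g.surjective y) V.isOpen hV.isCompact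
  have h1 : IsCompact (f' ⁻¹ᵁ U : Set X') := f'.isCompact_preimage hU
  have h2 : (f ⁻¹ᵁ V : Set X) = g' '' (f' ⁻¹ᵁ U : Set X') := by
    ext x
    constructor
    · intro hx
      have hx' : f x ∈ (V : Set Y) := hx
      rw [← hUV] at hx'
      obtain ⟨y, hy, hyx⟩ := hx'
      obtain ⟨z, hz1, hz2⟩ := Scheme.exists_preimage_of_isPullback h x y hyx.symm
      exact ⟨z, by change f' z ∈ U; rw [hz2]; exact hy, hz1⟩
    · rintro ⟨z, hz, rfl⟩
      change f (g' z) ∈ (V : Set Y)
      rw [← Scheme.Hom.comp_apply, h.w, Scheme.Hom.comp_apply, ← hUV]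
      exact ⟨_, hz, rfl⟩
  rw [h2]
  exact h1.image g'.continuous

end K500.QcDesc
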