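import Groth.Agent.AGF.K500.Bir
import Mathlib.RingTheory.Etale.Kaehler
import Mathlib.RingTheory.Kaehler.Polynomial
import Mathlib.AlgebraicGeometry.AffineSpace

/-!
# Rational schemes locally of finite type over a field are birational to a finite dimensional affine space
-/

set_option autoImplicit false
universe u
open CategoryTheory CategoryTheory.Limits MonoidalCategory CartesianMonoidalCategory MonObj GrpObj AlgebraicGeometry

namespace K500.RatFin

open K500.Bir

/-- A localization of a polynomial ring in infinitely many variables is not finitely generated. -/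
theorem finite_of_localization (k : Type u) [Field k] (n : Type u) (f : MvPolynomial n k) (hf : f ≠ 0)
    (h : Algebra.FiniteType k (Localization.Away f)) : Finite n := by
  have hnt : Nontrivial (Localization.Away f) :=
    (IsLocalization.injective (Localization.Away f) (powers_le_nonZeroDivisors_of_noZeroDivisors hf)).nontrivial
  have h1 : Module.Finite (Localization.Away f) (Ω[Localization.Away f⁄k]) := inferInstance
  let b := (KaehlerDifferential.mvPolynomialBasis k n).ofIsLocalizedModule (Localization.Away f) (Submonoid.powers f)
    (KaehlerDifferential.map k k (MvPolynomial n k) (Localization.Away f))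
  exact Module.Finite.finite_basis b

variable {k : Type u} [Field k]

/-- The affine space as an object over `Spec k`. -/
noncomputable abbrev Aff (k : Type u) [Field k] (n : Type u) : Over (Spec (CommRingCat.of k)) :=
  Over.mk (Spec.map (CommRingCat.ofHom (algebraMap k (MvPolynomial n k))))

theorem bir_affineSpace (n : Type u) : Scheme.BirationalOver (𝔸(n; Spec (CommRingCat.of k)) ↘ Spec (CommRingCat.of k))
    (Aff k n).hom := by
  have h : IsIso (AffineSpace.SpecIso n (CommRingCat.of k)).inv := inferInstance
  refine Scheme.BirationalOver.symm ?_
  refine Scheme.Hom.birationalOver (AffineSpace.SpecIso n (CommRingCat.of k)).inv _ _ ?_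
  rw [AffineSpace.SpecIso_inv_over]
  rfl

theorem finite_of_bir {X : Over (Spec (CommRingCat.of k))} [LocallyOfFiniteType X.hom] {n : Type u}
    (h : Scheme.BirationalOver X.hom (Aff k n).hom) : Finite n := by
  obtain ⟨U, a, b, _, _, _, _⟩ := exists_span h
  have hUl : LocallyOfFiniteType U.hom := by
    rw [← Over.w a]
    infer_instance
  have hne : (Set.range b.left).Nonempty := by
    have h1 : DenseRange b.left := b.left.denseRange
    have : Nonempty (Aff k n).left := inferInstanceAs (Nonempty (Spec (CommRingCat.of (MvPolynomial n k))))
    exact Dense.nonempty h1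
  obtain ⟨x, hx⟩ := hne
  have hopen : IsOpen (Set.range b.left) := b.left.isOpenEmbedding.isOpen_range
  obtain ⟨_, ⟨f, rfl⟩, hxf, hf⟩ := (PrimeSpectrum.isTopologicalBasis_basic_opens (R := MvPolynomial n k)).exists_subset_of_mem_open
    hx hopen
  have hf0 : f ≠ 0 := by
    rintro rfl
    simp at hxf
  let φ : MvPolynomial n k →+* Localization.Away f := algebraMap _ _
  let c : Spec (CommRingCat.of (Localization.Away f)) ⟶ Spec (CommRingCat.of (MvPolynomial n k)) :=
    Spec.map (CommRingCat.ofHom φ)
  have hc : Set.range c ⊆ Set.range b.left := by
    refine subset_trans ?_ hf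
    exact (PrimeSpectrum.localization_away_comap_range (Localization.Away f) f).le
  let d : Spec (CommRingCat.of (Localization.Away f)) ⟶ U.left := IsOpenImmersion.lift b.left c hc
  have hd : d ≫ b.left = c := IsOpenImmersion.lift_fac _ _ _
  have hci : IsOpenImmersion c := inferInstance
  have hdi : IsOpenImmersion d := by
    have h2 : IsOpenImmersion (d ≫ b.left) := by
      rw [hd]
      exact hci
    exact IsOpenImmersion.of_comp d b.left
  have h3 : LocallyOfFiniteType (d ≫ U.hom) := inferInstance
  rw [← Over.w b, ← Category.assoc, hd] at h3
  change LocallyOfFiniteType (Spec.map _ ≫ Spec.map _) at h3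
  rw [← Spec.map_comp, HasRingHomProperty.Spec_iff (P := @LocallyOfFiniteType), ← CommRingCat.ofHom_comp] at h3
  refine finite_of_localization k n f hf0 ?_
  rw [← RingHom.finiteType_algebraMap]
  have h4 : algebraMap k (Localization.Away f) = φ.comp (algebraMap k (MvPolynomial n k)) :=
    IsScalarTower.algebraMap_eq _ _ _
  rw [h4]
  exact h3

/-- Renaming the variables. -/
noncomputable def affIso {n m : Type u} (e : n ≃ m) : Aff k n ≅ Aff k m :=
  Over.isoMk (Scheme.Spec.mapIso (RingEquiv.toCommRingCatIso (MvPolynomial.renameEquiv k e.symm).toRingEquiv).op) (by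
    change Spec.map _ ≫ Spec.map _ = Spec.map _
    rw [← Spec.map_comp]
    congr 1
    ext x
    simp)

end K500.RatFin
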