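import Groth.Agent.AGF.K500.WKerFil3
import Groth.Agent.AGF.K500.AffFil

/-!
# Quotients of the kernel of the counit of Weil restriction are affine
-/

set_option autoImplicit false
universe u
open CategoryTheory CategoryTheory.Limits MonoidalCategory CartesianMonoidalCategory MonObj GrpObj AlgebraicGeometry
open scoped TensorProduct

namespace K500.WKerAff

open K500.WKerAlg K500.WKerJet K500.WKerCorr K500.WKerIso K500.NilPow K500.NilComm K500.WKerSm K500.WKerFil
open Groth.Agent.Agf.H584.QBasic Groth.Agent.Agf.H584.QExt Groth.Agent.Agf.H584.QSolv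

section alg

variable {k' A : Type u} [CommRing k'] [CommRing A] [Algebra k' A] {𝔞 𝔟 : Ideal A}

lemma ker_factor_sq (h : 𝔟 ≤ 𝔞) (h2 : 𝔞 ^ 2 ≤ 𝔟) : (RingHom.ker (Ideal.Quotient.factorₐ k' h)) ^ 2 = ⊥ := by
  have h3 : RingHom.ker (Ideal.Quotient.factorₐ k' h) = 𝔞.map (Ideal.Quotient.mk 𝔟) := by
    ext x
    obtain ⟨y, rfl⟩ := Ideal.Quotient.mk_surjective x
    rw [Ideal.mem_quotient_iff_mem h, RingHom.mem_ker]
    change Ideal.Quotient.mk 𝔞 y = 0 ↔ _
    rw [Ideal.Quotient.eq_zero_iff_mem]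
  rw [h3, ← Ideal.map_pow]
  rw [eq_bot_iff, ← Ideal.map_quotient_self 𝔟]
  exact Ideal.map_mono h2

end alg

variable (k k' : Type u) [Field k] [Field k'] [Algebra k k']

/-- The levels. -/
abbrev VV (j : ℕ) : Type u := (k' ⊗[k] k') ⧸ (RingHom.ker (mulB k k' k')) ^ (j + 1)

/-- the second structure -/
noncomputable def rr (j : ℕ) : k' →ₐ[k] VV k k' j :=
  (Ideal.Quotient.mkₐ k _).comp (Algebra.TensorProduct.includeRight : k' →ₐ[k] k' ⊗[k] k')

/-- the transition -/
noncomputable def ss (j : ℕ) : VV k k' (j + 1) →ₐ[k'] VV k k' j :=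
  Ideal.Quotient.factorₐ k' (Ideal.pow_le_pow_right (Nat.le_succ _))

lemma ss_rr (j : ℕ) (c : k') : ss k k' j (rr k k' (j + 1) c) = rr k k' j c := rfl

lemma ss_surjective (j : ℕ) : Function.Surjective (ss k k' j) :=
  Ideal.Quotient.factor_surjective (Ideal.pow_le_pow_right (Nat.le_succ _))

lemma ker_ss (j : ℕ) : (RingHom.ker (ss k k' j)) ^ 2 = ⊥ :=
  ker_factor_sq _ (by
    rw [← pow_mul]
    exact Ideal.pow_le_pow_right (by omega))

lemma rr_zero (c : k') : rr k k' 0 c = algebraMap k' _ c := by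
  change Ideal.Quotient.mk _ ((1 : k') ⊗ₜ[k] c) = Ideal.Quotient.mk _ (c ⊗ₜ[k] (1 : k'))
  rw [Ideal.Quotient.eq, zero_add, _root_.pow_one, RingHom.mem_ker]
  simp

lemma exists_section (N : ℕ) (hN : (RingHom.ker (mulB k k' k')) ^ (N + 1) = ⊥) :
    ∃ s : VV k k' N →ₐ[k'] k' ⊗[k] k', ∀ c, s (rr k k' N c) = 1 ⊗ₜ c :=
  ⟨Ideal.Quotient.liftₐ _ (AlgHom.id k' _) (fun a ha => by
    rw [hN, Ideal.mem_bot] at ha
    rw [ha, map_zero]), fun c => rfl⟩

variable {k k'} [Module.Finite k k'] [IsPurelyInseparable k k']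
  {G' : Over (Spec (CommRingCat.of k'))} [GrpObj G'] [LocallyOfFiniteType G'.hom] {R : Over (Spec (CommRingCat.of k))}
  [GrpObj R] {q : Red.bc (str k k') R ⟶ G'} [IsMonHom q] {K : Over (Spec (CommRingCat.of k'))} [GrpObj K]
  {iK : K ⟶ Red.bc (str k k') R} [IsMonHom iK]

/-- The kernel of the counit is affine and of finite type. -/
theorem isAffine_lft (hR : WeilRes.IsWeilRes (str k k') G' R q) (hK : AlgGrp.IsKernel iK q) :
    IsAffine K.left ∧ LocallyOfFiniteType K.hom := by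
  obtain ⟨P, _, _, hP, ⟨v⟩⟩ := exists_iso_sp hR hK
  have h2 : IsIso v.hom.left := ((Over.forget _).mapIso v).isIso_hom
  have h3 : IsIso v.inv.left := ((Over.forget _).mapIso v).isIso_inv
  have h5 : IsAffine (sp k' P).left := inferInstanceAs (IsAffine (Spec (CommRingCat.of P)))
  refine ⟨IsAffine.of_isIso v.inv.left, ?_⟩
  rw [← Over.w v.inv]
  have h4 : LocallyOfFiniteType (sp k' P).hom := by
    change LocallyOfFiniteType (Spec.map _)
    rw [HasRingHomProperty.Spec_iff (P := @LocallyOfFiniteType)]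
    change (algebraMap k' P).FiniteType
    rwa [RingHom.finiteType_algebraMap]
  infer_instance

/-- Quotients of the kernel of the counit are affine. -/
theorem affQuot (hR : WeilRes.IsWeilRes (str k k') G' R q) (hK : AlgGrp.IsKernel iK q) : AffQuot K := by
  obtain ⟨_, _⟩ := isAffine_lft hR hK
  obtain ⟨N, hN⟩ := isNilpotent_ker_mul k k'
  have hN' : (RingHom.ker (mulB k k' k')) ^ (N + 1) = ⊥ := by
    rw [_root_.pow_succ, hN]
    simp
  obtain ⟨s, hs⟩ := exists_section k k' N hN'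
  have h1 : IsIso (𝟙 K : K ⟶ K).left := inferInstanceAs (IsIso (𝟙 K.left))
  exact AffFil.affQuot_of_filtration (fun j T y => FP (rr k k' j) q iK y) N
    (fun j => by
      obtain ⟨D, d, hd, h⟩ := exists_closed (rr k k' j) hR hK
      exact ⟨D, d, hd, fun T y => h y⟩)
    (fun j T x y hx hy => hx.mul hy) (fun j T => FP.one) (fun j T x hx => hx.inv)
    (fun j T x hx => FP.mono (s := ss k k' j) (ss_rr k k' j) hx)
    (fun j T x y hx hy => FP.comm (ss_rr k k' j) (ss_surjective k k' j) (ker_ss k k' j) hx hy)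
    (fun T x hx => hx.eq_one hR hK s hs) N 0 (zero_add N) K (𝟙 K) (inferInstance)
    (fun T y => ⟨fun _ => FP.of_algebraMap hK (rr_zero k k'), fun _ => ⟨y, Category.comp_id y⟩⟩)

end K500.WKerAff
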