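import Groth.Agent.AGF.K500.NilComm
import Groth.Agent.Sga3B.Hens.WeilRes
import Mathlib.LinearAlgebra.TensorProduct.RightExactness

/-!
# The congruence filtration on the points of the kernel of the counit of Weil restriction: algebra
-/

set_option autoImplicit false
universe u
open CategoryTheory CategoryTheory.Limits MonoidalCategory CartesianMonoidalCategory MonObj GrpObj AlgebraicGeometry
open scoped TensorProduct

namespace K500.WKerFil

open K500.WKerAlg

lemma map_sq_eq_bot {A R S : Type*} [CommRing A] [CommRing R] [CommRing S] [Algebra A R] [Algebra A S] (f : R →ₐ[A] S)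
    {I : Ideal R} (h : I ^ 2 = ⊥) : (I.map f) ^ 2 = ⊥ := by
  rw [← Ideal.map_pow, h, Ideal.map_bot]

variable {k k' : Type u} [Field k] [Field k'] [Algebra k k']
  {V : Type u} [CommRing V] [Algebra k' V] [Algebra k V] [IsScalarTower k k' V] (r : k' →ₐ[k] V)
  {V' : Type u} [CommRing V'] [Algebra k' V'] [Algebra k V'] [IsScalarTower k k' V'] (r' : k' →ₐ[k] V')
  (B : Type u) [CommRing B] [Algebra k' B] [Algebra k B] [IsScalarTower k k' B]

/-- `B ⊗_k k' → B ⊗_{k'} V` for a `k'`-algebra `V` with a second structure `r` over `k'`. -/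
noncomputable def alpha : B ⊗[k] k' →ₐ[B] B ⊗[k'] V :=
  Algebra.TensorProduct.lift Algebra.TensorProduct.includeLeft
    (((Algebra.TensorProduct.includeRight : V →ₐ[k'] B ⊗[k'] V).restrictScalars k).comp r)
    (by
      intro x y
      have h := fun a b : B ⊗[k'] V => mul_comm a b
      unfold Commute SemiconjBy
      exact h _ _)

@[simp] lemma alpha_tmul (b : B) (c : k') : alpha r B (b ⊗ₜ c) = b ⊗ₜ (r c) := by
  simp [alpha]

variable {B} {B' : Type u} [CommRing B'] [Algebra k' B'] [Algebra k B'] [IsScalarTower k k' B']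

lemma map_alpha (h : B →ₐ[k'] B') (z : B ⊗[k] k') :
    Algebra.TensorProduct.map h (AlgHom.id k' V) (alpha r B z) = alpha r B' (mapT k k' h z) := by
  induction z with
  | zero => simp
  | add x y hx hy => simp only [map_add, hx, hy]
  | tmul b c => simp

variable (q : V →ₐ[k'] V')

variable (B) in
/-- the transition map -/
noncomputable def tr : B ⊗[k'] V →ₐ[k'] B ⊗[k'] V' :=
  Algebra.TensorProduct.map (AlgHom.id k' B) q

variable {r r' q} in
lemma tr_alpha (h : ∀ c, q (r c) = r' c) (z : B ⊗[k] k') : tr B q (alpha r B z) = alpha r' B z := by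
  induction z with
  | zero => simp
  | add x y hx hy => simp only [map_add, hx, hy]
  | tmul b c => simp [tr, h]

omit [Algebra k B] [IsScalarTower k k' B] in
variable {q} in
lemma tr_surjective (hq : Function.Surjective q) : Function.Surjective (tr B q) := by
  apply Algebra.TensorProduct.map_surjective
  · exact Function.surjective_id
  · exact hq

omit [Algebra k B] [IsScalarTower k k' B] in
variable {q} in
lemma ker_tr_sq (hq : Function.Surjective q) (h2 : (RingHom.ker q) ^ 2 = ⊥) : (RingHom.ker (tr B q)) ^ 2 = ⊥ := by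
  have h1 : RingHom.ker (tr B q) = (RingHom.ker q).map (Algebra.TensorProduct.includeRight : V →ₐ[k'] B ⊗[k'] V) :=
    Algebra.TensorProduct.lTensor_ker (A := B) q hq
  rw [h1]
  exact map_sq_eq_bot _ h2

variable (B) in
/-- if the two structures agree -/
lemma alpha_ker (hr : ∀ c, r c = algebraMap k' V c) (z : B ⊗[k] k') : alpha r B z = (mulB k k' B z) ⊗ₜ 1 := by
  induction z with
  | zero => simp
  | add x y hx hy => simp only [map_add, hx, hy, TensorProduct.add_tmul]
  | tmul b c =>
    rw [alpha_tmul, mulB_tmul, hr]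
    rw [Algebra.algebraMap_eq_smul_one, TensorProduct.tmul_smul, TensorProduct.smul_tmul', Algebra.smul_def, mul_comm]

variable (B) in
/-- A left inverse of `alpha`. -/
noncomputable def beta (s : V →ₐ[k'] k' ⊗[k] k') : B ⊗[k'] V →ₐ[B] B ⊗[k] k' :=
  Algebra.TensorProduct.lift (Algebra.TensorProduct.includeLeft : B →ₐ[B] B ⊗[k] k')
    ((Algebra.TensorProduct.map (Algebra.ofId k' B) (AlgHom.id k k') : k' ⊗[k] k' →ₐ[k'] B ⊗[k] k').comp s)
    (by
      intro x y
      have h := fun a b : B ⊗[k] k' => mul_comm a b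
      unfold Commute SemiconjBy
      exact h _ _)

variable {r} in
lemma beta_alpha (s : V →ₐ[k'] k' ⊗[k] k') (hs : ∀ c, s (r c) = 1 ⊗ₜ c) (z : B ⊗[k] k') :
    beta B s (alpha r B z) = z := by
  induction z with
  | zero => simp
  | add x y hx hy => simp only [map_add, hx, hy]
  | tmul b c =>
    rw [alpha_tmul]
    simp [beta, hs]

end K500.WKerFil
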