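import Groth.Agent.AGF.K500.WKerFil

/-!
# The congruence filtration on the points of the kernel of the counit of Weil restriction: points
-/

set_option autoImplicit false
universe u
open CategoryTheory CategoryTheory.Limits MonoidalCategory CartesianMonoidalCategory MonObj GrpObj AlgebraicGeometry
open scoped TensorProduct

namespace K500.WKerFil

open K500.WKerAlg K500.WKerJet K500.WKerCorr K500.WKerIso K500.NilPow K500.NilComm

variable {k k' : Type u} [Field k] [Field k'] [Algebra k k']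
  {V : Type u} [CommRing V] [Algebra k' V] [Algebra k V] [IsScalarTower k k' V] (r : k' →ₐ[k] V)
  {V' : Type u} [CommRing V'] [Algebra k' V'] [Algebra k V'] [IsScalarTower k k' V'] (r' : k' →ₐ[k] V')
  (B : Type u) [CommRing B] [Algebra k' B] [Algebra k B] [IsScalarTower k k' B]
  {G' : Over (Spec (CommRingCat.of k'))} [GrpObj G']

/-- The closed part of `J (Spec B)` defined by `r`. -/
noncomputable def zl : Spec (CommRingCat.of (B ⊗[k'] V)) ⟶ (J (str k k') (sp k' B)).left :=
  Spec.map (CommRingCat.ofHom (alpha r B).toRingHom) ≫ (eB k k' B).hom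

noncomputable abbrev Zob : Over (Spec (CommRingCat.of k')) := Over.mk (zl r B ≫ (J (str k k') (sp k' B)).hom)

noncomputable abbrev zm : Zob r B ⟶ J (str k k') (sp k' B) := Over.homMk (zl r B) rfl

/-- triviality on the closed part -/
def PP (φ : J (str k k') (sp k' B) ⟶ G') : Prop := zm r B ≫ φ = 1

variable {r r' B}

lemma PP.iff_left {φ : J (str k k') (sp k' B) ⟶ G'} : PP r B φ ↔
    zl r B ≫ φ.left = zl r B ≫ (J (str k k') (sp k' B)).hom ≫ (η[G'] : 𝟙_ (Over (Spec (CommRingCat.of k'))) ⟶ G').left := by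
  unfold PP
  constructor
  · intro h
    have h1 := congrArg (fun z => z.left) h
    rw [one_left, Over.comp_left] at h1
    exact h1.trans (Category.assoc _ _ _)
  · intro h
    ext1
    rw [one_left, Over.comp_left]
    exact h.trans (Category.assoc _ _ _).symm

lemma PP.mul {φ ψ : J (str k k') (sp k' B) ⟶ G'} (hφ : PP r B φ) (hψ : PP r B ψ) : PP r B (φ * ψ) := by
  unfold PP at *
  rw [MonObj.comp_mul, hφ, hψ, _root_.mul_one]

lemma PP.inv {φ : J (str k k') (sp k' B) ⟶ G'} (hφ : PP r B φ) : PP r B φ⁻¹ := by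
  unfold PP at *
  rw [GrpObj.comp_inv, hφ, _root_.inv_one]

lemma PP.one : PP r B (1 : J (str k k') (sp k' B) ⟶ G') := by
  unfold PP
  rw [MonObj.comp_one]

lemma tr_zl {q : V →ₐ[k'] V'} (hr : ∀ c, q (r c) = r' c) :
    Spec.map (CommRingCat.ofHom (tr B q).toRingHom) ≫ zl r B = zl r' B := by
  rw [zl, zl, ← Category.assoc, ← Spec.map_comp, ← CommRingCat.ofHom_comp]
  congr 3
  exact RingHom.ext fun z => tr_alpha hr z

/-- Commutators of points which are trivial modulo a nilpotent ideal of square zero. -/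
theorem PP.comm [LocallyOfFiniteType G'.hom] {q : V →ₐ[k'] V'} (hr : ∀ c, q (r c) = r' c) (hq : Function.Surjective q)
    (h2 : (RingHom.ker q) ^ 2 = ⊥) {φ ψ : J (str k k') (sp k' B) ⟶ G'} (hφ : PP r' B φ) (hψ : PP r' B ψ) :
    PP r B (φ * ψ * φ⁻¹ * ψ⁻¹) := by
  have key : ∀ {φ : J (str k k') (sp k' B) ⟶ G'}, PP r' B φ →
      Spec.map (CommRingCat.ofHom (tr B q).toRingHom) ≫ (zm r B ≫ φ).left =
        Spec.map (CommRingCat.ofHom (tr B q).toRingHom) ≫ (1 : Zob r B ⟶ G').left := by
    intro φ hφ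
    have h1 := PP.iff_left.1 hφ
    rw [← tr_zl hr] at h1
    rw [one_left, Over.comp_left]
    change Spec.map _ ≫ zl r B ≫ φ.left = Spec.map _ ≫ (zl r B ≫ (J (str k k') (sp k' B)).hom) ≫ _
    rw [Category.assoc] at h1
    rw [h1]
    simp only [Category.assoc]
  have h1 := commute_of_sq (G := G') (D := B ⊗[k'] V) (D₀ := B ⊗[k'] V') (Zob r B).hom (tr B q).toRingHom (tr_surjective hq)
    (ker_tr_sq hq h2) (zm r B ≫ φ) (zm r B ≫ ψ) (key hφ) (key hψ)
  unfold PP
  rw [MonObj.comp_mul, MonObj.comp_mul, MonObj.comp_mul, GrpObj.comp_inv, GrpObj.comp_inv]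
  have h3 : (zm r B ≫ φ) * (zm r B ≫ ψ) = (zm r B ≫ ψ) * (zm r B ≫ φ) := h1
  rw [h3]
  group

/-- Over the diagonal every point of the kernel is trivial. -/
theorem PP.of_del (hr : ∀ c, r c = algebraMap k' V c) {φ : J (str k k') (sp k' B) ⟶ G'}
    (hφ : del (str k k') (sp k' B) ≫ φ = 1) : PP r B φ := by
  have h0 : (alpha r B).toRingHom = (Algebra.TensorProduct.includeLeftRingHom : B →+* B ⊗[k'] V).comp
      (mulB k k' B).toRingHom := RingHom.ext fun z => alpha_ker r B hr z
  have h1 : zl r B = Spec.map (CommRingCat.ofHom (Algebra.TensorProduct.includeLeftRingHom : B →+* B ⊗[k'] V)) ≫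
      (del (str k k') (sp k' B)).left := by
    rw [zl, ← map_mulB_eB, h0, CommRingCat.ofHom_comp, Spec.map_comp, Category.assoc]
  have h2 := congrArg (fun z => z.left) hφ
  rw [one_left, Over.comp_left, ← Over.w (del (str k k') (sp k' B)), Category.assoc] at h2
  rw [PP.iff_left, h1, Category.assoc, h2, Category.assoc]

/-- A point is trivial as soon as it is trivial on the whole of `J (Spec B)`. -/
theorem PP.eq_one (s : V →ₐ[k'] k' ⊗[k] k') (hs : ∀ c, s (r c) = 1 ⊗ₜ c) {φ : J (str k k') (sp k' B) ⟶ G'}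
    (hφ : PP r B φ) : φ = 1 := by
  have h1 : Spec.map (CommRingCat.ofHom (beta B s).toRingHom) ≫ Spec.map (CommRingCat.ofHom (alpha r B).toRingHom) = 𝟙 _ := by
    rw [← Spec.map_comp, ← CommRingCat.ofHom_comp]
    have h2 : (beta B s).toRingHom.comp (alpha r B).toRingHom = RingHom.id _ := RingHom.ext fun z => beta_alpha s hs z
    rw [h2]
    exact Spec.map_id _
  have h2 : Spec.map (CommRingCat.ofHom (beta B s).toRingHom) ≫ zl r B = (eB k k' B).hom := by
    rw [zl, ← Category.assoc, h1, Category.id_comp]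
  have h3 := PP.iff_left.1 hφ
  ext1
  rw [one_left, ← cancel_epi (eB k k' B).hom, ← h2, Category.assoc, Category.assoc, h3]

section rep

variable {C : Type u} [CommRing C] [Algebra k' C] {e : C →ₐ[k'] k'} {w : Spec (CommRingCat.of C) ⟶ G'.left}
  [Mono w] (he : Spec.map (CommRingCat.ofHom e.toRingHom) ≫ w = (η[G'] : 𝟙_ (Over (Spec (CommRingCat.of k'))) ⟶ G').left)

include he in
lemma PP.iff_corr {φ : J (str k k') (sp k' B) ⟶ G'} {σ : C →+* B ⊗[k] k'} (h : Corr w φ σ) :
    PP r B φ ↔ ∀ c, alpha r B (σ c) = alpha r B (1 ⊗ₜ e c) := by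
  have h1 : zl r B ≫ φ.left = Spec.map (CommRingCat.ofHom ((alpha r B).toRingHom.comp σ)) ≫ w := by
    rw [zl, Category.assoc, show (eB k k' B).hom ≫ φ.left = _ from h, CommRingCat.ofHom_comp, Spec.map_comp, Category.assoc]
  have h2 : zl r B ≫ (J (str k k') (sp k' B)).hom ≫ (η[G'] : 𝟙_ (Over (Spec (CommRingCat.of k'))) ⟶ G').left =
      Spec.map (CommRingCat.ofHom ((alpha r B).toRingHom.comp
      ((Algebra.TensorProduct.includeRight : k' →ₐ[k] B ⊗[k] k').toRingHom.comp e.toRingHom))) ≫ w := by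
    rw [← he, zl, Category.assoc, ← Category.assoc (eB k k' B).hom, eB_hom, CommRingCat.ofHom_comp, CommRingCat.ofHom_comp,
      Spec.map_comp, Spec.map_comp, Category.assoc, Category.assoc]
  rw [PP.iff_left, h1, h2, cancel_mono]
  constructor
  · intro h4 c
    exact congrArg (fun z : CommRingCat.of C ⟶ CommRingCat.of (B ⊗[k'] V) => z.hom c) (Spec.map_injective h4)
  · intro h4
    congr 2
    exact RingHom.ext h4

include he in
/-- The points trivial on the closed part are cut out by an ideal. -/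
theorem exists_rep [Module.Finite k' V] {P : Type u} [CommRing P] [Algebra k' P] [Algebra k P] [IsScalarTower k k' P]
    [Algebra.FiniteType k' P] {φ : J (str k k') (sp k' P) ⟶ G'} {σ : C →+* P ⊗[k] k'} (h : Corr w φ σ) :
    ∃ b : Ideal P, ∀ (B : Type u) [CommRing B] [Algebra k' B] [Algebra k B] [IsScalarTower k k' B] (f : P →ₐ[k'] B),
      PP r B (Jmap (str k k') (spMap k' f) ≫ φ) ↔ ∀ c ∈ b, f c = 0 := by
  let a : Ideal (P ⊗[k'] V) := Ideal.span (Set.range fun c => alpha r P (σ c - 1 ⊗ₜ e c))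
  have hfin : Module.Finite k' V := inferInstance
  have hft : Algebra.FiniteType k' (P ⊗[k'] V) := by
    have : Algebra.FiniteType P (P ⊗[k'] V) := inferInstance
    exact Algebra.FiniteType.trans (S := P) inferInstance inferInstance
  have hnoeth : IsNoetherianRing (P ⊗[k'] V) := Algebra.FiniteType.isNoetherianRing k' _
  obtain ⟨b, -, hb⟩ := Groth.Agent.Sga3B.Hens.WeilRes.exists_ideal k' V P a (IsNoetherian.noetherian a)
  refine ⟨b, fun B _ _ _ _ f => ?_⟩
  rw [← hb B f, PP.iff_corr he (h.comp w f)]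
  constructor
  · intro h1
    have h2 : a ≤ RingHom.ker (Algebra.TensorProduct.map f (AlgHom.id k' V)) := by
      rw [Ideal.span_le]
      rintro _ ⟨c, rfl⟩
      rw [SetLike.mem_coe, RingHom.mem_ker, map_alpha, map_sub, mapT_tmul, map_sub, sub_eq_zero]
      have := h1 c
      simpa using this
    exact fun z hz => h2 hz
  · intro h1 c
    have h2 := h1 _ (Ideal.subset_span ⟨c, rfl⟩)
    rw [map_alpha, map_sub, mapT_tmul, map_sub, sub_eq_zero] at h2
    simpa using h2

end rep

end K500.WKerFil
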