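import Groth.Agent.AGF.K500.WKerFil2
import Groth.Agent.AGF.K500.WKerSm
import Groth.Agent.Sga3B.CentNorm900

/-!
# The congruence filtration on the kernel of the counit of Weil restriction: closed subgroups
-/

set_option autoImplicit false
universe u
open CategoryTheory CategoryTheory.Limits MonoidalCategory CartesianMonoidalCategory MonObj GrpObj AlgebraicGeometry
open scoped TensorProduct

namespace K500.WKerFil

open K500.WKerAlg K500.WKerJet K500.WKerCorr K500.WKerIso K500.NilPow K500.NilComm K500.WKerSm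

variable {k k' : Type u} [Field k] [Field k'] [Algebra k k'] 
  {V : Type u} [CommRing V] [Algebra k' V] [Algebra k V] [IsScalarTower k k' V] (r : k' →ₐ[k] V)
  {V' : Type u} [CommRing V'] [Algebra k' V'] [Algebra k V'] [IsScalarTower k k' V'] (r' : k' →ₐ[k] V')
  {G' : Over (Spec (CommRingCat.of k'))} [GrpObj G'] {R : Over (Spec (CommRingCat.of k))}
  (q : Red.bc (str k k') R ⟶ G') {K : Over (Spec (CommRingCat.of k'))} (iK : K ⟶ Red.bc (str k k') R)

/-- The points of the kernel which are trivial on the closed part defined by `r`. -/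
def FP {T : Over (Spec (CommRingCat.of k'))} (y : T ⟶ K) : Prop :=
  ∀ (B : Type u) [CommRing B] [Algebra k' B] [Algebra k B] [IsScalarTower k k' B] (t : sp k' B ⟶ T),
    PP r B (Phi q iK (t ≫ y))

section rep

variable {q iK} [LocallyOfFiniteType G'.hom] [Module.Finite k k'] [IsPurelyInseparable k k'] [Module.Finite k' V]

/-- The points of the kernel which are trivial on the closed part defined by `r` are represented by a closed
subscheme. -/
theorem exists_closed (hR : WeilRes.IsWeilRes (str k k') G' R q) (hK : AlgGrp.IsKernel iK q) :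
    ∃ (D : Over (Spec (CommRingCat.of k'))) (d : D ⟶ K), IsClosedImmersion d.left ∧
      ∀ {T : Over (Spec (CommRingCat.of k'))} (y : T ⟶ K), (∃ δ : T ⟶ D, δ ≫ d = y) ↔ FP r q iK y := by
  obtain ⟨C, _, _, _, e, w, _, hw, he⟩ := exists_chart (η[G'] : 𝟙_ (Over (Spec (CommRingCat.of k'))) ⟶ G')
  obtain ⟨P, _, _, _, ⟨v⟩⟩ := exists_iso_sp hR hK
  let _ : Algebra k P := ((algebraMap k' P).comp (algebraMap k k')).toAlgebra
  have _ : IsScalarTower k k' P := IsScalarTower.of_algebraMap_eq fun _ => rfl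
  obtain ⟨σ, hσ, -⟩ := exists_isPt e w hw he (surjective_del k k' P) (Phi q iK v.hom) (del_Phi hK v.hom)
  obtain ⟨b, hb⟩ := exists_rep (r := r) he hσ
  let d : sp k' (P ⧸ b) ⟶ K := spMap k' (Ideal.Quotient.mkₐ k' b) ≫ v.hom
  have hd : IsClosedImmersion d.left := by
    have h1 : IsClosedImmersion (spMap k' (Ideal.Quotient.mkₐ k' b)).left :=
      IsClosedImmersion.spec_of_surjective (CommRingCat.ofHom (Ideal.Quotient.mkₐ k' b).toRingHom)
        (Ideal.Quotient.mkₐ_surjective k' b)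
    have h2 : IsIso v.hom.left := ((Over.forget _).mapIso v).isIso_hom
    rw [Over.comp_left]
    infer_instance
  have hmono : Mono d := Over.mono_of_mono_left d
  refine ⟨sp k' (P ⧸ b), d, hd, fun {T} y => ⟨?_, fun h => ?_⟩⟩
  · rintro ⟨δ, rfl⟩ B _ _ _ _ t
    obtain ⟨g, hg⟩ := exists_spMap (t ≫ δ)
    have h1 : t ≫ δ ≫ d = spMap k' (g.comp (Ideal.Quotient.mkₐ k' b)) ≫ v.hom := by
      rw [← Category.assoc, hg]
      change _ ≫ _ ≫ _ = _
      rw [← Category.assoc]
      congr 1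
      ext1
      rw [Over.comp_left]
      change Spec.map _ ≫ Spec.map _ = Spec.map _
      rw [← Spec.map_comp]
      rfl
    rw [h1, Phi_comp, hb]
    intro c hc
    change g (Ideal.Quotient.mk b c) = 0
    rw [Ideal.Quotient.eq_zero_iff_mem.2 hc, map_zero]
  · refine Groth.Agent.Sga3B.Parab.AffPts998.exists_lift_of_aff d y fun B _ c t => ?_
    obtain ⟨c₀, rfl⟩ : ∃ c₀ : CommRingCat.of k' ⟶ CommRingCat.of B, c = Spec.map c₀ := ⟨Spec.preimage c, by simp⟩
    let _ : Algebra k' B := c₀.hom.toAlgebra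
    let _ : Algebra k B := ((algebraMap k' B).comp (algebraMap k k')).toAlgebra
    have _ : IsScalarTower k k' B := IsScalarTower.of_algebraMap_eq fun _ => rfl
    change sp k' B ⟶ T at t
    obtain ⟨f, hf⟩ := exists_spMap (t ≫ y ≫ v.inv)
    have h1 : t ≫ y = spMap k' f ≫ v.hom := by
      rw [← hf, Category.assoc, Category.assoc, Iso.inv_hom_id, Category.comp_id]
    have h2 := h B t
    rw [h1, Phi_comp, hb] at h2
    let g : (P ⧸ b) →ₐ[k'] B := Ideal.Quotient.liftₐ b f h2
    refine ⟨spMap k' g, ?_⟩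
    change spMap k' g ≫ d = t ≫ y
    rw [h1]
    change _ ≫ _ ≫ _ = _
    rw [← Category.assoc]
    congr 1
    ext1
    rw [Over.comp_left]
    change Spec.map _ ≫ Spec.map _ = Spec.map _
    rw [← Spec.map_comp]
    congr 1

end rep

section grp

variable {r q iK}

lemma Phi_mul [GrpObj R] [IsMonHom q] [GrpObj K] [IsMonHom iK] {T : Over (Spec (CommRingCat.of k'))} (x y : T ⟶ K) :
    Phi q iK (x * y) = Phi q iK x * Phi q iK y := by
  rw [Phi, MonObj.mul_comp, toJ_mul]
  rfl

lemma Phi_one [GrpObj R] [IsMonHom q] [GrpObj K] [IsMonHom iK] {T : Over (Spec (CommRingCat.of k'))} :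
    Phi q iK (1 : T ⟶ K) = 1 := by
  rw [Phi, MonObj.one_comp, toJ_one]

lemma Phi_inv [GrpObj R] [IsMonHom q] [GrpObj K] [IsMonHom iK] {T : Over (Spec (CommRingCat.of k'))} (x : T ⟶ K) :
    Phi q iK x⁻¹ = (Phi q iK x)⁻¹ := by
  rw [eq_inv_iff_mul_eq_one, ← Phi_mul, inv_mul_cancel, Phi_one]

variable [GrpObj R] [IsMonHom q] [GrpObj K] [IsMonHom iK] {T : Over (Spec (CommRingCat.of k'))} {x y : T ⟶ K}

lemma FP.mul (hx : FP r q iK x) (hy : FP r q iK y) : FP r q iK (x * y) := fun B _ _ _ _ t => by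
  rw [MonObj.comp_mul, Phi_mul]
  exact (hx B t).mul (hy B t)

lemma FP.one : FP r q iK (1 : T ⟶ K) := fun B _ _ _ _ t => by
  rw [MonObj.comp_one, Phi_one]
  exact PP.one

lemma FP.inv (hx : FP r q iK x) : FP r q iK x⁻¹ := fun B _ _ _ _ t => by
  rw [GrpObj.comp_inv, Phi_inv]
  exact (hx B t).inv

variable {r'}

theorem FP.comm [LocallyOfFiniteType G'.hom] {s : V →ₐ[k'] V'} (hr : ∀ c, s (r c) = r' c) (hq : Function.Surjective s)
    (h2 : (RingHom.ker s) ^ 2 = ⊥) (hx : FP r' q iK x) (hy : FP r' q iK y) : FP r q iK (x * y * x⁻¹ * y⁻¹) :=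
  fun B _ _ _ _ t => by
    rw [MonObj.comp_mul, MonObj.comp_mul, MonObj.comp_mul, GrpObj.comp_inv, GrpObj.comp_inv, Phi_mul, Phi_mul, Phi_mul,
      Phi_inv, Phi_inv]
    exact PP.comm hr hq h2 (hx B t) (hy B t)

omit [IsMonHom q] [GrpObj R] [GrpObj K] [IsMonHom iK] in
theorem FP.of_algebraMap (hK : AlgGrp.IsKernel iK q) (hr : ∀ c, r c = algebraMap k' V c) : FP r q iK x := fun B _ _ _ _ t =>
  PP.of_del hr (del_Phi hK (t ≫ x))

theorem FP.eq_one (hR : WeilRes.IsWeilRes (str k k') G' R q) (hK : AlgGrp.IsKernel iK q)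
    (s : V →ₐ[k'] k' ⊗[k] k') (hs : ∀ c, s (r c) = 1 ⊗ₜ c) (hx : FP r q iK x) : x = 1 := by
  apply Groth.Agent.Sga3B.Parab.AffPts998.hom_ext_aff
  intro B _ c t
  obtain ⟨c₀, rfl⟩ : ∃ c₀ : CommRingCat.of k' ⟶ CommRingCat.of B, c = Spec.map c₀ := ⟨Spec.preimage c, by simp⟩
  let _ : Algebra k' B := c₀.hom.toAlgebra
  let _ : Algebra k B := ((algebraMap k' B).comp (algebraMap k k')).toAlgebra
  have _ : IsScalarTower k k' B := IsScalarTower.of_algebraMap_eq fun _ => rfl
  change sp k' B ⟶ T at t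
  rw [MonObj.comp_one]
  apply Phi_injective hR hK
  rw [Phi_one]
  exact (hx B t).eq_one s hs

omit [IsMonHom q] [GrpObj R] [GrpObj K] [IsMonHom iK] in
/-- the filtration is decreasing -/
theorem FP.mono {s : V →ₐ[k'] V'} (hr : ∀ c, s (r c) = r' c) (hx : FP r q iK x) : FP r' q iK x := fun B _ _ _ _ t => by
  have h := hx B t
  rw [PP.iff_left] at h ⊢
  rw [← tr_zl hr, Category.assoc, h]
  simp only [Category.assoc]

end grp

end K500.WKerFil
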